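import Cfsg.Prelude.Def_Blocks
import Cfsg.Agent.Blocks.CentralizerSum

/-!
# Local orthogonality relations (helper650)

`z` a `p`-element of `G`, `H = C_G(z)`, `A`, `A'` unions of blocks of `H`, `y, y' ∈ H` `p`-regular.

* `sum_blockPart_mul_conj`: `∑ ζ ∈ Irr(G), (A-part of ζ(z ·))(y) * conj (ζ (z y')) = ∑ ξ ∈ A, ξ y * conj (ξ y')`;
* `sum_blockPart_mul_blockPart`:
  `∑ ζ ∈ Irr(G), (A-part of ζ(z ·))(y) * conj ((A'-part of ζ(z ·))(y')) = ∑ ξ ∈ A ∩ A', ξ y * conj (ξ y')`.
-/

set_option autoImplicit false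

open Cfsg Cfsg.Agent.Blocks.Basic Cfsg.Agent.Blocks.Local Cfsg.Agent.Blocks
open scoped ComplexConjugate

namespace Cfsg.Agent.H650

section

variable {G : Type*} [Group G]

/-- `A` is a union of blocks. -/
def IsUnB (M : Ideal AlgInt) (A : Set (IrrCharacter G)) : Prop :=
  ∀ ξ ξ' : IrrCharacter G, SameBlock M (ξ : G → ℂ) (ξ' : G → ℂ) → ξ ∈ A → ξ' ∈ A

theorem isUnB_of_isPBlock {M : Ideal AlgInt} [M.IsPrime] {B : Set (IrrCharacter G)}
    (hB : IsPBlock M B) : IsUnB M B := fun _ _ h hξ => isPBlock_mem_of_sameBlock hB hξ h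

theorem isUnB_univ {M : Ideal AlgInt} : IsUnB M (Set.univ : Set (IrrCharacter G)) :=
  fun _ _ _ _ => Set.mem_univ _

end

variable {G : Type*} [Group G] [Finite G] {p : ℕ} [Fact p.Prime] {M : Ideal AlgInt}

omit [Finite G] [Fact p.Prime] in
theorem isClassFunction_mul_left {z : G} {H : Subgroup G}
    (hH : H = Subgroup.centralizer ({z} : Set G)) {θ : G → ℂ} (hθ : IsClassFunction G θ) :
    IsClassFunction H (fun c : H => θ (z * (c : G))) := by
  intro g h
  have h1 : z * ((h * g * h⁻¹ : H) : G) = (h : G) * (z * (g : G)) * (h : G)⁻¹ := by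
    have h2 : (h : G) * z = z * (h : G) :=
      Subgroup.mem_centralizer_singleton_iff.1 (hH ▸ h.2)
    push_cast
    rw [← mul_assoc, ← mul_assoc, ← mul_assoc, h2]
  change θ (z * ((h * g * h⁻¹ : H) : G)) = θ (z * (g : G))
  rw [h1, hθ]

omit [Finite G] in
/-- The element `z` of its centralizer. -/
theorem exists_zH {z : G} {H : Subgroup G}
    (hH : H = Subgroup.centralizer ({z} : Set G)) :
    ∃ zH : H, (zH : G) = z ∧ zH ∈ Subgroup.center H := by
  refine ⟨⟨z, hH ▸ Subgroup.mem_centralizer_singleton_iff.2 rfl⟩, rfl, ?_⟩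
  rw [Subgroup.mem_center_iff]
  intro g
  apply Subtype.ext
  rw [Subgroup.coe_mul, Subgroup.coe_mul]
  exact Subgroup.mem_centralizer_singleton_iff.1 (hH ▸ g.2)

open Classical in
/-- `Φ(c) = ∑ ξ ∈ A, ξ c * conj (ξ w)`. -/
noncomputable def Phi {H : Type*} [Group H] [Fintype (IrrCharacter H)] (A : Set (IrrCharacter H))
    (w c : H) : ℂ := ∑ ξ : IrrCharacter H with ξ ∈ A, (ξ : H → ℂ) c * conj ((ξ : H → ℂ) w)

omit [Finite G] [Fact p.Prime] in
theorem finsum_mem_eq_sum_filter' {H : Type*} [Group H] [Fintype (IrrCharacter H)]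
    (A : Set (IrrCharacter H)) [DecidablePred (· ∈ A)] (f : IrrCharacter H → ℂ) :
    ∑ᶠ ξ ∈ A, f ξ = ∑ ξ : IrrCharacter H with ξ ∈ A, f ξ := by
  classical
  rw [finsum_mem_eq_toFinset_sum]
  refine Finset.sum_congr ?_ fun _ _ => rfl
  ext; simp

/-- `Φ` vanishes off the `p`-section of `w`. -/
theorem Phi_eq_zero {H : Type*} [Group H] [Finite H] [Fintype (IrrCharacter H)]
    (hM : IsPModular p M) {A : Set (IrrCharacter H)} (hA : IsUnB M A) {zH : H}
    (hz : zH ∈ Subgroup.center H) {w : H} (hw : IsPPart p w zH) {c : H}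
    (hc : ¬ IsPPart p c zH) : Phi A w c = 0 := by
  classical
  have := isPrime_of_isPModular hM
  refine CentralizerSum.sum_filter_eq_zero (M := M) (fun ξ : IrrCharacter H => ξ ∈ A)
    (fun ξ ξ' h h1 => hA ξ ξ' h h1) _ fun b hb hbA => ?_
  obtain ⟨x, hx⟩ := PPart.exists_isPPart p c
  have hne : ¬ IsConj x zH := by
    intro h
    obtain ⟨v, hv⟩ := isConj_iff.1 h.symm
    apply hc
    have : x = zH := by
      rw [← hv, Subgroup.mem_center_iff.1 hz v]; group
    rwa [← this]
  have h1 := (S0925.result p M hM (G := H)).2 c w x zH hx hw hne b hb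
  rw [← h1]
  refine finsum_mem_congr rfl fun ξ _ => ?_
  rw [Characters.Core.isCharacter_apply_inv (irr_isCharacter ξ.2)]

open Classical in
/-- The `A`-part of `c ↦ θ (z c)`. -/
theorem blockPart_eq_Phi {z : G} {H : Subgroup G} [Fintype H] [Fintype (IrrCharacter H)]
    {zH : H} (hzH : (zH : G) = z) (hzc : zH ∈ Subgroup.center H) (A : Set (IrrCharacter H))
    (θ : G → ℂ) (y : H) :
    blockPart A (fun c : H => θ (z * (c : G))) y =
      (Nat.card H : ℂ)⁻¹ * ∑ c : H, θ (c : G) * conj (Phi A (zH * y) c) := by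
  rw [CentralizerSum.blockPart_eq, finsum_mem_eq_sum_filter']
  have h1 : ∀ ξ : IrrCharacter H, classInner (fun c : H => θ (z * (c : G)))
      (ξ : H → ℂ) * (ξ : H → ℂ) y = (Nat.card H : ℂ)⁻¹ *
        ∑ c : H, θ (c : G) * (conj ((ξ : H → ℂ) c) * (ξ : H → ℂ) (zH * y)) := by
    intro ξ
    obtain ⟨l, hl, hl'⟩ := CentralizerSum.exists_central_scalar ξ.2 hzc
    rw [classInner_def, mul_assoc, Finset.sum_mul]
    congr 1
    rw [← Equiv.sum_comp (Equiv.mulLeft zH)
      (fun c : H => θ (c : G) * (conj ((ξ : H → ℂ) c) * (ξ : H → ℂ) (zH * y)))]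
    refine Finset.sum_congr rfl fun c _ => ?_
    rw [Equiv.coe_mulLeft, hl', hl', map_mul, Subgroup.coe_mul, hzH]
    linear_combination (-θ (z * (c : G)) * conj ((ξ : H → ℂ) c) * (ξ : H → ℂ) y) * hl
  rw [Finset.sum_congr rfl fun ξ _ => h1 ξ, ← Finset.mul_sum]
  congr 1
  rw [Finset.sum_comm]
  refine Finset.sum_congr rfl fun c _ => ?_
  rw [← Finset.mul_sum]
  congr 1
  simp only [Phi, map_sum, map_mul, Complex.conj_conj]

open Classical in
/-- Column orthogonality at the `p`-section of `z`. -/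
theorem sum_irr_section {z : G} {H : Subgroup G}
    (hH : H = Subgroup.centralizer ({z} : Set G)) {zH : H} (hzH : (zH : G) = z)
    [Fintype (IrrCharacter G)] [Fintype (IrrCharacter H)] {c w : H}
    (hc : IsPPart p c zH) (hw : IsPPart p w zH) :
    ∑ ζ : IrrCharacter G, (ζ : G → ℂ) (c : G) * conj ((ζ : G → ℂ) (w : G)) =
      ∑ ξ : IrrCharacter H, (ξ : H → ℂ) c * conj ((ξ : H → ℂ) w) := by
  have := Fintype.ofFinite G
  have := Fintype.ofFinite H
  rw [S0145.sum_irr_mul_conj, S0145.sum_irr_mul_conj]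
  have hc' : IsPPart p (c : G) z := by
    have := PPart.isPPart_coe hc
    rwa [hzH] at this
  have hw' : IsPPart p (w : G) z := by
    have := PPart.isPPart_coe hw
    rwa [hzH] at this
  have hiff : IsConj (c : G) (w : G) ↔ IsConj c w := by
    constructor
    · intro h
      obtain ⟨v, hv⟩ := isConj_iff.1 h
      have hvH : v ∈ H := hH ▸ PPart.mem_centralizer_of_conj hc' hw' hv
      refine isConj_iff.2 ⟨⟨v, hvH⟩, Subtype.ext ?_⟩
      simpa using hv
    · intro h
      obtain ⟨v, hv⟩ := isConj_iff.1 h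
      refine isConj_iff.2 ⟨v, ?_⟩
      rw [← hv]
      simp
  have hcen : Nat.card (Subgroup.centralizer ({(w : G)} : Set G)) =
      Nat.card (Subgroup.centralizer ({w} : Set H)) := by
    have hmap : Subgroup.centralizer ({(w : G)} : Set G) =
        (Subgroup.centralizer ({w} : Set H)).map H.subtype := by
      ext v
      constructor
      · intro hv
        have h1 : v * (w : G) * v⁻¹ = (w : G) := by
          rw [Subgroup.mem_centralizer_singleton_iff.1 hv]; group
        have hvH : v ∈ H := hH ▸ PPart.mem_centralizer_of_conj hw' hw' h1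
        refine ⟨⟨v, hvH⟩, ?_, rfl⟩
        refine Subgroup.mem_centralizer_singleton_iff.2 (Subtype.ext ?_)
        exact Subgroup.mem_centralizer_singleton_iff.1 hv
      · rintro ⟨v, hv, rfl⟩
        rw [Subgroup.mem_centralizer_singleton_iff]
        exact congrArg Subtype.val (Subgroup.mem_centralizer_singleton_iff.1 hv)
    rw [hmap]
    exact (Nat.card_congr ((Subgroup.centralizer ({w} : Set H)).equivMapOfInjective
      H.subtype H.subtype_injective).toEquiv).symm
  rw [hcen]
  simp only [hiff]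

open Classical in
theorem inner_Phi {H : Type*} [Group H] [Fintype H] [Fintype (IrrCharacter H)]
    (A : Set (IrrCharacter H)) (w : H) (ξ : IrrCharacter H) :
    (Nat.card H : ℂ)⁻¹ * ∑ c : H, (ξ : H → ℂ) c * conj (Phi A w c) =
      if ξ ∈ A then (ξ : H → ℂ) w else 0 := by
  have h1 : (Nat.card H : ℂ)⁻¹ * ∑ c : H, (ξ : H → ℂ) c * conj (Phi A w c) =
      ∑ η : IrrCharacter H with η ∈ A, (η : H → ℂ) w *
        classInner (ξ : H → ℂ) (η : H → ℂ) := by
    simp only [Phi, map_sum, map_mul, Complex.conj_conj, classInner_def, Finset.mul_sum]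
    rw [Finset.sum_comm]
    refine Finset.sum_congr rfl fun η _ => Finset.sum_congr rfl fun c _ => ?_
    ring
  rw [h1]
  have h2 : ∀ η : IrrCharacter H, (η : H → ℂ) w * classInner (ξ : H → ℂ) (η : H → ℂ) =
      if η = ξ then (ξ : H → ℂ) w else 0 := by
    intro η
    rw [Characters.Core.classInner_irr ξ.2 η.2]
    by_cases h : η = ξ
    · subst h; simp
    · rw [if_neg (fun h1 => h (Subtype.ext h1.symm)), if_neg h, mul_zero]
  rw [Finset.sum_congr rfl fun η _ => h2 η, Finset.sum_ite_eq']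
  simp

open Classical in
/-- **Local orthogonality, one block part.** -/
theorem sum_blockPart_mul_conj (hM : IsPModular p M) {z : G} (hz : ∃ k : ℕ, orderOf z = p ^ k)
    {H : Subgroup G} (hH : H = Subgroup.centralizer ({z} : Set G))
    {A : Set (IrrCharacter H)} (hA : IsUnB M A) [Fintype (IrrCharacter G)]
    [Fintype (IrrCharacter H)] (y y' : H) (hy : ¬ p ∣ orderOf y) (hy' : ¬ p ∣ orderOf y') :
    ∑ ζ : IrrCharacter G, blockPart A (fun c : H => (ζ : G → ℂ) (z * (c : G))) y *
      conj ((ζ : G → ℂ) (z * (y' : G))) =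
      ∑ ξ : IrrCharacter H with ξ ∈ A, (ξ : H → ℂ) y * conj ((ξ : H → ℂ) y') := by
  have := isPrime_of_isPModular hM
  have := Fintype.ofFinite G
  have := Fintype.ofFinite H
  obtain ⟨zH, hzH, hzc⟩ := exists_zH hH
  have hordz : ∃ k : ℕ, orderOf zH = p ^ k := by
    obtain ⟨k, hk⟩ := hz
    exact ⟨k, by rw [← Subgroup.orderOf_coe, hzH, hk]⟩
  have hpp : ∀ w : H, ¬ p ∣ orderOf w → IsPPart p (zH * w) zH := fun w hw =>
    PPart.isPPart_mul (Subgroup.mem_center_iff.1 hzc w).symm hordz hw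
  have hzy' : z * (y' : G) = ((zH * y' : H) : G) := by rw [Subgroup.coe_mul, hzH]
  have hmain : ∑ ζ : IrrCharacter G,
      blockPart A (fun c : H => (ζ : G → ℂ) (z * (c : G))) y *
      conj ((ζ : G → ℂ) (z * (y' : G))) =
      ∑ ξ : IrrCharacter H, (if ξ ∈ A then (ξ : H → ℂ) (zH * y) else 0) *
        conj ((ξ : H → ℂ) (zH * y')) := by
    calc ∑ ζ : IrrCharacter G, blockPart A (fun c : H => (ζ : G → ℂ) (z * (c : G))) y *
          conj ((ζ : G → ℂ) (z * (y' : G)))
        = (Nat.card H : ℂ)⁻¹ * ∑ c : H, conj (Phi A (zH * y) c) *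
            ∑ ζ : IrrCharacter G, (ζ : G → ℂ) (c : G) * conj ((ζ : G → ℂ) (z * (y' : G))) := by
          rw [Finset.sum_congr rfl fun ζ _ => by
            rw [blockPart_eq_Phi hzH hzc A (ζ : G → ℂ) y, mul_assoc, Finset.sum_mul],
            ← Finset.mul_sum, Finset.sum_comm]
          congr 1
          refine Finset.sum_congr rfl fun c _ => ?_
          rw [Finset.mul_sum]
          exact Finset.sum_congr rfl fun ζ _ => by ring
      _ = (Nat.card H : ℂ)⁻¹ * ∑ c : H, conj (Phi A (zH * y) c) *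
            ∑ ξ : IrrCharacter H, (ξ : H → ℂ) c * conj ((ξ : H → ℂ) (zH * y')) := by
          congr 1
          refine Finset.sum_congr rfl fun c _ => ?_
          by_cases hc : IsPPart p c zH
          · rw [hzy', sum_irr_section hH hzH hc (hpp y' hy')]
          · rw [Phi_eq_zero hM hA hzc (hpp y hy) hc, map_zero, zero_mul, zero_mul]
      _ = ∑ ξ : IrrCharacter H, (if ξ ∈ A then (ξ : H → ℂ) (zH * y) else 0) *
            conj ((ξ : H → ℂ) (zH * y')) := by
          symm
          rw [Finset.sum_congr rfl fun ξ _ => by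
            rw [← inner_Phi A (zH * y) ξ, mul_assoc, Finset.sum_mul],
            ← Finset.mul_sum, Finset.sum_comm]
          congr 1
          refine Finset.sum_congr rfl fun c _ => ?_
          rw [Finset.mul_sum]
          exact Finset.sum_congr rfl fun ζ _ => by ring
  rw [hmain]
  simp only [ite_mul, zero_mul]
  rw [← Finset.sum_filter]
  refine Finset.sum_congr rfl fun ξ _ => ?_
  obtain ⟨l, hl, hl'⟩ := CentralizerSum.exists_central_scalar ξ.2 hzc
  rw [hl', hl', map_mul]
  linear_combination ((ξ : H → ℂ) y * conj ((ξ : H → ℂ) y')) * hl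

open Classical in
/-- **Local orthogonality, two block parts.** -/
theorem sum_blockPart_mul_blockPart (hM : IsPModular p M) {z : G}
    (hz : ∃ k : ℕ, orderOf z = p ^ k)
    {H : Subgroup G} (hH : H = Subgroup.centralizer ({z} : Set G))
    {A A' : Set (IrrCharacter H)} (hA : IsUnB M A) (hA' : IsUnB M A') [Fintype (IrrCharacter G)]
    [Fintype (IrrCharacter H)] (y y' : H) (hy : ¬ p ∣ orderOf y) (hy' : ¬ p ∣ orderOf y') :
    ∑ ζ : IrrCharacter G, blockPart A (fun c : H => (ζ : G → ℂ) (z * (c : G))) y *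
      conj (blockPart A' (fun c : H => (ζ : G → ℂ) (z * (c : G))) y') =
      ∑ ξ : IrrCharacter H with ξ ∈ A ∧ ξ ∈ A', (ξ : H → ℂ) y * conj ((ξ : H → ℂ) y') := by
  have := isPrime_of_isPModular hM
  have := Fintype.ofFinite G
  have := Fintype.ofFinite H
  obtain ⟨zH, hzH, hzc⟩ := exists_zH hH
  have hordz : ∃ k : ℕ, orderOf zH = p ^ k := by
    obtain ⟨k, hk⟩ := hz
    exact ⟨k, by rw [← Subgroup.orderOf_coe, hzH, hk]⟩
  have hpp : ∀ w : H, ¬ p ∣ orderOf w → IsPPart p (zH * w) zH := fun w hw =>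
    PPart.isPPart_mul (Subgroup.mem_center_iff.1 hzc w).symm hordz hw
  choose l hl hl' using fun ξ : IrrCharacter H =>
    CentralizerSum.exists_central_scalar ξ.2 hzc
  have hstep : ∀ c : H, IsPPart p c zH →
      ∑ ζ : IrrCharacter G, blockPart A (fun c : H => (ζ : G → ℂ) (z * (c : G))) y *
        conj ((ζ : G → ℂ) (c : G)) =
      ∑ ξ : IrrCharacter H with ξ ∈ A, (ξ : H → ℂ) y * (l ξ * conj ((ξ : H → ℂ) c)) := by
    intro c hc
    obtain ⟨c', hc1, hc2, -, hc3⟩ := hc
    have h1 := sum_blockPart_mul_conj hM hz hH hA y c' hy hc3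
    have h2 : z * (c' : G) = (c : G) := by rw [← hc1, Subgroup.coe_mul, hzH]
    rw [h2] at h1
    rw [h1]
    refine Finset.sum_congr rfl fun ξ _ => ?_
    rw [← hc1, hl', map_mul]
    linear_combination (-(ξ : H → ℂ) y * conj ((ξ : H → ℂ) c')) * hl ξ
  calc ∑ ζ : IrrCharacter G, blockPart A (fun c : H => (ζ : G → ℂ) (z * (c : G))) y *
      conj (blockPart A' (fun c : H => (ζ : G → ℂ) (z * (c : G))) y')
      = (Nat.card H : ℂ)⁻¹ * ∑ c : H, Phi A' (zH * y') c *
          ∑ ζ : IrrCharacter G, blockPart A (fun c : H => (ζ : G → ℂ) (z * (c : G))) y *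
            conj ((ζ : G → ℂ) (c : G)) := by
        have e1 : ∀ ζ : IrrCharacter G,
            blockPart A (fun c : H => (ζ : G → ℂ) (z * (c : G))) y *
              conj (blockPart A' (fun c : H => (ζ : G → ℂ) (z * (c : G))) y') =
            (Nat.card H : ℂ)⁻¹ * ∑ c : H, Phi A' (zH * y') c *
              (blockPart A (fun c : H => (ζ : G → ℂ) (z * (c : G))) y *
                conj ((ζ : G → ℂ) (c : G))) := by
          intro ζ
          rw [blockPart_eq_Phi hzH hzc A' (ζ : G → ℂ) y', map_mul, map_inv₀, map_natCast,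
            map_sum, ← mul_assoc, mul_comm (blockPart A _ y), mul_assoc, Finset.mul_sum]
          congr 1
          refine Finset.sum_congr rfl fun c _ => ?_
          rw [map_mul, Complex.conj_conj]
          ring
        rw [Finset.sum_congr rfl fun ζ _ => e1 ζ, ← Finset.mul_sum, Finset.sum_comm]
        congr 1
        refine Finset.sum_congr rfl fun c _ => ?_
        rw [Finset.mul_sum]
    _ = (Nat.card H : ℂ)⁻¹ * ∑ c : H, Phi A' (zH * y') c *
          ∑ ξ : IrrCharacter H with ξ ∈ A, (ξ : H → ℂ) y * (l ξ * conj ((ξ : H → ℂ) c)) := by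
        congr 1
        refine Finset.sum_congr rfl fun c _ => ?_
        by_cases hc : IsPPart p c zH
        · rw [hstep c hc]
        · rw [Phi_eq_zero hM hA' hzc (hpp y' hy') hc, zero_mul, zero_mul]
    _ = ∑ ξ : IrrCharacter H with ξ ∈ A, (ξ : H → ℂ) y * l ξ *
          conj ((Nat.card H : ℂ)⁻¹ * ∑ c : H, (ξ : H → ℂ) c * conj (Phi A' (zH * y') c)) := by
        simp only [map_mul, map_sum, Complex.conj_conj, map_inv₀, map_natCast, Finset.mul_sum]
        rw [Finset.sum_comm]
        refine Finset.sum_congr rfl fun ξ _ => Finset.sum_congr rfl fun c _ => ?_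
        ring
    _ = _ := by
        rw [Finset.sum_filter, Finset.sum_filter]
        refine Finset.sum_congr rfl fun ξ _ => ?_
        rw [inner_Phi]
        by_cases h1 : ξ ∈ A
        · by_cases h2 : ξ ∈ A'
          · rw [if_pos h1, if_pos h2, if_pos ⟨h1, h2⟩, hl', map_mul]
            linear_combination ((ξ : H → ℂ) y * conj ((ξ : H → ℂ) y')) * hl ξ
          · rw [if_pos h1, if_neg h2, if_neg (fun h => h2 h.2), map_zero, mul_zero]
        · rw [if_neg h1, if_neg (fun h => h1 h.1)]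

end Cfsg.Agent.H650
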