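import Cfsg.Agent.H651.StarDef
import Cfsg.Agent.H650.WSum
import Cfsg.Agent.H649.PairInduced
import Cfsg.Agent.H644.ConjMax
import Cfsg.Agent.Blocks.SectionSum
import Cfsg.Agent.H646.RegInner

/-!
# Algebra of the star construction (helper650)

On top of `H651.StarDef`.  `secFun u χ : C_G(⟨u⟩) → ℂ` is `c ↦ χ (u c)`.

* `starW_apply`: `starW w χ (u s)` as weighted sum of block parts, `u` a `p`-element, `s` `p`-regular;
* `isClassFunction_starW`, `starW_starW`, `starW_one_weight`, `classInner_starW_starW`;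
* `blockPart_secFun_starW`: the `(u, f)`-part of `starW w χ` is `w(u, f)` times that of `χ`;
* `starW_congr_of_mem`: for `χ ∈ B` only the weights of the Brauer pairs of `B` matter;
* `star_star`, `star_one`, `star_apply_reg`, `classInner_star_star`, `classInner_star_of_notMem`;
* `star_mem`: if `star λ χ` is a generalized character, `|λ| = 1` on `P` and `λ 1 = 1`, then it is an
  irreducible character of `B` of the same degree as `χ`.
-/

set_option autoImplicit false
set_option linter.unusedSectionVars false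

open Cfsg Cfsg.Agent.Blocks.Basic Cfsg.Agent.Blocks.Local Cfsg.Agent.Blocks
open Cfsg.Agent.H649 Cfsg.Agent.H651
open scoped ComplexConjugate

namespace Cfsg.Agent.H650

universe u

variable {G : Type u} [Group G]

/-- The centralizer of the cyclic subgroup generated by `u`. -/
abbrev Cz (u : G) : Subgroup G := Subgroup.centralizer ((Subgroup.zpowers u : Subgroup G) : Set G)

theorem mem_Cz_iff {u x : G} : x ∈ Cz u ↔ Commute u x := by
  constructor
  · intro h
    exact Subgroup.mem_centralizer_iff.1 h u (Subgroup.mem_zpowers u)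
  · intro h
    refine Subgroup.mem_centralizer_iff.2 ?_
    rintro w ⟨n, rfl⟩
    exact h.zpow_left n

theorem Cz_eq (u : G) : Cz u = Subgroup.centralizer ({u} : Set G) := by
  ext x
  rw [mem_Cz_iff, Subgroup.mem_centralizer_singleton_iff]
  exact ⟨fun h => h.eq.symm, fun h => (show u * x = x * u from h.symm)⟩

/-- The section of `χ` at `u`. -/
def secFun (u : G) (χ : G → ℂ) : Cz u → ℂ := fun c => χ (u * (c : G))

theorem isClassFunction_secFun {χ : G → ℂ} (hχ : IsClassFunction G χ) (u : G) :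
    IsClassFunction (Cz u) (secFun u χ) := isClassFunction_mul_left (Cz_eq u) hχ

variable {p : ℕ} {M : Ideal AlgInt}

theorem finsum_blkPairs (Q : Subgroup G) (F : BrauerPairIdx G → ℂ) :
    ∑ᶠ b ∈ blkPairs M Q, F b =
      ∑ᶠ f ∈ {f : Set (IrrCharacter (Subgroup.centralizer (Q : Set G))) | IsPBlock M f},
        F ⟨Q, f⟩ := by
  have h1 : blkPairs M Q = (fun f : Set (IrrCharacter (Subgroup.centralizer (Q : Set G))) =>
      (⟨Q, f⟩ : BrauerPairIdx G)) ''
        {f : Set (IrrCharacter (Subgroup.centralizer (Q : Set G))) | IsPBlock M f} := by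
    ext b
    constructor
    · rintro ⟨rfl, hb⟩
      exact ⟨b.2, hb, rfl⟩
    · rintro ⟨f, hf, rfl⟩
      exact ⟨rfl, hf⟩
  rw [h1, finsum_mem_image]
  intro f _ f' _ h
  exact eq_of_heq (Sigma.mk.inj h).2

section

variable [Finite G] [Fact p.Prime]

theorem orderOf_coe_dvd {H : Subgroup G} (s : H) : p ∣ orderOf s ↔ p ∣ orderOf (s : G) := by
  rw [Subgroup.orderOf_coe]

theorem starW_apply (hM : IsPModular p M) (w : G → BrauerPairIdx G → ℂ) {χ : G → ℂ}
    (hχ : IsClassFunction G χ) {u : G} (hu : ∃ k : ℕ, orderOf u = p ^ k) {s : Cz u}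
    (hs : ¬ p ∣ orderOf s) :
    starW p M w χ (u * (s : G)) =
      wSum M (fun f => w u ⟨Subgroup.zpowers u, f⟩) (secFun u χ) s := by
  have := isPrime_of_isPModular hM
  have hpp : pp p (u * (s : G)) = u :=
    pp_mul (mem_Cz_iff.1 s.2) hu (by rwa [← orderOf_coe_dvd])
  unfold starW
  rw [hpp, finsum_blkPairs, wSum_eq_finsum]
  refine finsum_mem_congr rfl fun f _ => ?_
  rw [chiE_zpowers u f hχ s]
  rfl

/-- Every element is `u * s` with `u` its `p`-part. -/
theorem exists_pp_mul (g : G) : (∃ k : ℕ, orderOf (pp p g) = p ^ k) ∧ ∃ s : Cz (pp p g),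
    ¬ p ∣ orderOf s ∧ pp p g * (s : G) = g := by
  obtain ⟨y, h1, h2, h3, h4⟩ := isPPart_pp p g
  refine ⟨h3, ⟨y, mem_Cz_iff.2 h2⟩, ?_, h1⟩
  rw [orderOf_coe_dvd]
  exact h4

/-- `IsWInv w`: invariance of the weight under conjugation. -/
def IsWInv (w : G → BrauerPairIdx G → ℂ) : Prop :=
  ∀ (x u : G) (b : BrauerPairIdx G), b.1 = Subgroup.zpowers u →
    w (x * u * x⁻¹) (conjIdx x b) = w u b

omit [Finite G] [Fact p.Prime] in
theorem blkPairs_conj (x : G) (Q : Subgroup G) :
    blkPairs M (Q.map (MulAut.conj x).toMonoidHom) = conjIdx x '' blkPairs M Q := by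
  ext b
  constructor
  · rintro ⟨h1, h2⟩
    refine ⟨conjIdx x⁻¹ b, ⟨?_, ?_⟩, conjIdx_conjIdx_inv x b⟩
    · rw [conjIdx_fst, h1, Subgroup.map_map]
      have : (MulAut.conj x⁻¹).toMonoidHom.comp (MulAut.conj x).toMonoidHom =
          MonoidHom.id G := by
        ext y
        simp [mul_assoc]
      rw [this, Subgroup.map_id]
    · exact isPBlock_blkMap h2
  · rintro ⟨b', ⟨rfl, h2⟩, rfl⟩
    exact ⟨conjIdx_fst x b', isPBlock_blkMap h2⟩

theorem isClassFunction_starW {w : G → BrauerPairIdx G → ℂ} (hw : IsWInv w) {χ : G → ℂ}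
    (hχ : IsClassFunction G χ) : IsClassFunction G (starW p M w χ) := by
  intro g h
  unfold starW
  rw [pp_conj]
  have h1 : Subgroup.zpowers (h * pp p g * h⁻¹) =
      (Subgroup.zpowers (pp p g)).map (MulAut.conj h).toMonoidHom := by
    rw [MonoidHom.map_zpowers]
    rfl
  rw [h1, blkPairs_conj, finsum_mem_image]
  · refine finsum_mem_congr rfl fun b hb => ?_
    rw [hw h _ b hb.1, chiE_conjIdx h b hχ]
  · intro b _ b' _ hbb
    have := congrArg (conjIdx h⁻¹) hbb
    rwa [conjIdx_inv_conjIdx, conjIdx_inv_conjIdx] at this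

/-- The part of `starW w χ` in a block `f` of the centralizer of the `p`-element `u`. -/
theorem blockPart_secFun_starW (hM : IsPModular p M) {w : G → BrauerPairIdx G → ℂ} (hw : IsWInv w)
    {χ : G → ℂ} (hχ : IsClassFunction G χ) {u : G} (hu : ∃ k : ℕ, orderOf u = p ^ k)
    {f : Set (IrrCharacter (Cz u))} (hf : IsPBlock M f) {s : Cz u} (hs : ¬ p ∣ orderOf s) :
    blockPart f (secFun u (starW p M w χ)) s =
      w u ⟨Subgroup.zpowers u, f⟩ * blockPart f (secFun u χ) s := by
  have := isPrime_of_isPModular hM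
  rw [blockPart_congr_reg hM (isClassFunction_secFun (isClassFunction_starW hw hχ) u)
    (isClassFunction_wSum M (fun f => w u ⟨Subgroup.zpowers u, f⟩) (secFun u χ))
    (fun t ht => starW_apply hM w hχ hu ht) hf hs, blockPart_wSum _ _ hf]
  rfl

theorem starW_starW (hM : IsPModular p M) (w : G → BrauerPairIdx G → ℂ)
    {w' : G → BrauerPairIdx G → ℂ} (hw' : IsWInv w') {χ : G → ℂ} (hχ : IsClassFunction G χ) :
    starW p M w (starW p M w' χ) = starW p M (fun u b => w u b * w' u b) χ := by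
  funext g
  obtain ⟨hu, s, hs, hg⟩ := exists_pp_mul (p := p) g
  rw [← hg, starW_apply hM w (isClassFunction_starW hw' hχ) hu hs, starW_apply hM _ hχ hu hs,
    wSum_congr_reg hM (isClassFunction_secFun (isClassFunction_starW hw' hχ) _)
    (isClassFunction_wSum M (fun f => w' (pp p g) ⟨Subgroup.zpowers (pp p g), f⟩)
      (secFun (pp p g) χ))
    (fun t ht => starW_apply hM w' hχ hu ht) _ hs, wSum_wSum]

theorem starW_one_weight (hM : IsPModular p M) {χ : G → ℂ} (hχ : IsClassFunction G χ) :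
    starW p M (fun _ _ => 1) χ = χ := by
  funext g
  obtain ⟨hu, s, hs, hg⟩ := exists_pp_mul (p := p) g
  rw [← hg, starW_apply hM _ hχ hu hs, wSum_one M (isClassFunction_secFun hχ _)]
  rfl

/-- A sum over `G` as a sum over the `p`-elements and the `p`-regular elements of their
centralizers. -/
theorem sum_eq_sum_sec [Fintype G] [∀ u : G, Fintype (Cz u)]
    [DecidablePred fun u : G => ∃ k : ℕ, orderOf u = p ^ k]
    [∀ u : G, DecidablePred fun s : Cz u => ¬ p ∣ orderOf s] (F : G → ℂ) :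
    ∑ g : G, F g = ∑ u : G with ∃ k : ℕ, orderOf u = p ^ k,
      ∑ s : Cz u with ¬ p ∣ orderOf s, F (u * (s : G)) := by
  classical
  rw [SectionSum.sum_eq_sum_sections p F]
  refine Finset.sum_congr (by congr!) fun u _ => ?_
  symm
  refine Finset.sum_bij (fun (s : Cz u) _ => (s : G)) ?_ ?_ ?_ ?_
  · intro s hs
    refine Finset.mem_filter.2 ⟨Finset.mem_univ _, mem_Cz_iff.1 s.2, ?_⟩
    rw [← orderOf_coe_dvd]
    exact (Finset.mem_filter.1 hs).2
  · intro s _ t _ h
    exact Subtype.ext h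
  · intro y hy
    obtain ⟨h1, h2⟩ := (Finset.mem_filter.1 hy).2
    refine ⟨⟨y, mem_Cz_iff.2 h1⟩, Finset.mem_filter.2 ⟨Finset.mem_univ _, ?_⟩, rfl⟩
    rw [orderOf_coe_dvd]
    exact h2
  · intro s _
    rfl

/-- The inner product as a sum of local forms. -/
theorem classInner_eq_sum_regForm [Fintype G] [∀ u : G, Fintype (Cz u)]
    [DecidablePred fun u : G => ∃ k : ℕ, orderOf u = p ^ k] (θ φ : G → ℂ) :
    classInner θ φ = (Nat.card G : ℂ)⁻¹ * ∑ u : G with ∃ k : ℕ, orderOf u = p ^ k,
      regForm p (secFun u θ) (secFun u φ) := by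
  classical
  rw [classInner_def, sum_eq_sum_sec (p := p)]
  congr 1

theorem regForm_congr {H : Type*} [Group H] [Fintype H] {θ θ' φ φ' : H → ℂ}
    (h : ∀ s : H, ¬ p ∣ orderOf s → θ s = θ' s) (h' : ∀ s : H, ¬ p ∣ orderOf s → φ s = φ' s) :
    regForm p θ φ = regForm p θ' φ' := by
  classical
  rw [regForm_def, regForm_def]
  refine Finset.sum_congr rfl fun s hs => ?_
  rw [h s (Finset.mem_filter.1 hs).2, h' s (Finset.mem_filter.1 hs).2]

theorem classInner_starW_starW [Fintype G] (hM : IsPModular p M)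
    (w w' : G → BrauerPairIdx G → ℂ) {χ ψ : G → ℂ} (hχ : IsClassFunction G χ)
    (hψ : IsClassFunction G ψ) :
    classInner (starW p M w χ) (starW p M w' ψ) =
      classInner (starW p M (fun u b => w u b * conj (w' u b)) χ) ψ := by
  classical
  have : ∀ u : G, Fintype (Cz u) := fun u => Fintype.ofFinite _
  rw [classInner_eq_sum_regForm (p := p), classInner_eq_sum_regForm (p := p)]
  congr 1
  refine Finset.sum_congr rfl fun u hu => ?_
  have hu' := (Finset.mem_filter.1 hu).2
  rw [regForm_congr (p := p) (θ := secFun u (starW p M w χ)) (φ := secFun u (starW p M w' ψ))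
    (fun s hs => starW_apply hM w hχ hu' hs) (fun s hs => starW_apply hM w' hψ hu' hs),
    regForm_congr (p := p)
    (θ := secFun u (starW p M (fun u b => w u b * conj (w' u b)) χ)) (φ := secFun u ψ)
    (fun s hs => starW_apply hM _ hχ hu' hs) (fun s _ => rfl),
    regForm_wSum hM (isClassFunction_secFun hψ u)]

/-- Second main theorem, pair form. -/
theorem blockPart_secFun_eq_zero (hM : IsPModular p M) {B : Set (IrrCharacter G)}
    (hB : IsPBlock M B) {χ : IrrCharacter G} (hχ : χ ∈ B) {u : G}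
    (hu : ∃ k : ℕ, orderOf u = p ^ k) {f : Set (IrrCharacter (Cz u))} (hf : IsPBlock M f)
    (hn : ¬ IsBrauerPairOf p M B (Subgroup.zpowers u) f) {s : Cz u} (hs : ¬ p ∣ orderOf s) :
    blockPart f (secFun u (χ : G → ℂ)) s = 0 := by
  have := isPrime_of_isPModular hM
  have hP : IsPGroup p (Subgroup.zpowers u) := by
    obtain ⟨k, hk⟩ := hu
    refine IsPGroup.of_card (n := k) ?_
    rw [Nat.card_zpowers, hk]
  rw [isBrauerPairOf_iff_isInducedBlock hM hB hP hf] at hn
  exact CentralizerSum.secondMain hM hu (Cz_eq u) hB χ hχ hf hn s hs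

theorem starW_congr_of_mem (hM : IsPModular p M) {B : Set (IrrCharacter G)}
    (hB : IsPBlock M B) {χ : IrrCharacter G} (hχ : χ ∈ B) {w w' : G → BrauerPairIdx G → ℂ}
    (h : ∀ u : G, (∃ k : ℕ, orderOf u = p ^ k) → ∀ f : Set (IrrCharacter (Cz u)),
      IsBrauerPairOf p M B (Subgroup.zpowers u) f →
        w u ⟨Subgroup.zpowers u, f⟩ = w' u ⟨Subgroup.zpowers u, f⟩) :
    starW p M w (χ : G → ℂ) = starW p M w' (χ : G → ℂ) := by
  funext g
  obtain ⟨hu, s, hs, hg⟩ := exists_pp_mul (p := p) g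
  have hc := irr_isClassFunction χ.2
  rw [← hg, starW_apply hM _ hc hu hs, starW_apply hM _ hc hu hs]
  refine wSum_congr hM fun f hf => ?_
  by_cases h1 : IsBrauerPairOf p M B (Subgroup.zpowers (pp p g)) f
  · exact Or.inl (h _ hu f h1)
  · exact Or.inr (blockPart_secFun_eq_zero hM hB hχ hu hf h1 hs)

end

section Star

variable [Finite G] [Fact p.Prime] {B : Set (IrrCharacter G)} {a : BrauerPairIdx G}

omit [Fact p.Prime] in
theorem exists_conj_leIdx (hM : IsPModular p M) (hmax : IsMaximalBrauerPair p M B a.1 a.2)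
    {Q : Subgroup G} {f : Set (IrrCharacter (Subgroup.centralizer (Q : Set G)))}
    (h : IsBrauerPairOf p M B Q f) : ∃ x, LEIdx p M (conjIdx x ⟨Q, f⟩) a := by
  have := isPrime_of_isPModular hM
  obtain ⟨x, hx⟩ := H644.exists_conj_subpairLE hM hmax h
  exact ⟨x, by rw [conjIdx_mk]; exact hx⟩

omit [Finite G] [Fact p.Prime] in
theorem isWInv_etaW {η : G → ℂ} (hη : IsStable p M a η) : IsWInv (etaW p M a η) :=
  fun x u _ hb => etaW_conj hη x u hb

omit [Finite G] [Fact p.Prime] in
theorem isStable_mul {η η' : G → ℂ} (hη : IsStable p M a η) (hη' : IsStable p M a η') :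
    IsStable p M a (fun g => η g * η' g) := by
  intro u x b h1 h2 h3 h4
  change η _ * η' _ = η _ * η' _
  rw [hη u x b h1 h2 h3 h4, hη' u x b h1 h2 h3 h4]

omit [Finite G] [Fact p.Prime] in
theorem isStable_conj {η : G → ℂ} (hη : IsStable p M a η) :
    IsStable p M a (fun g => conj (η g)) := by
  intro u x b h1 h2 h3 h4
  change conj _ = conj _
  rw [hη u x b h1 h2 h3 h4]

omit [Finite G] [Fact p.Prime] in
theorem isStable_const (c : ℂ) : IsStable p M a (fun _ => c) := fun _ _ _ _ _ _ _ => rfl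

omit [Finite G] [Fact p.Prime] in
theorem etaW_mul {η η' : G → ℂ} (hη : IsStable p M a η) (hη' : IsStable p M a η') {u : G}
    {b : BrauerPairIdx G} (hb : b.1 = Subgroup.zpowers u) :
    etaW p M a (fun g => η g * η' g) u b = etaW p M a η u b * etaW p M a η' u b := by
  by_cases h : ∃ x, LEIdx p M (conjIdx x b) a
  · obtain ⟨x, hx⟩ := h
    rw [etaW_eq hη hb hx, etaW_eq hη' hb hx, etaW_eq (isStable_mul hη hη') hb hx]
  · rw [etaW_eq_zero h, etaW_eq_zero h, zero_mul]

omit [Finite G] [Fact p.Prime] in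
theorem etaW_conj' {η : G → ℂ} (hη : IsStable p M a η) {u : G}
    {b : BrauerPairIdx G} (hb : b.1 = Subgroup.zpowers u) :
    etaW p M a (fun g => conj (η g)) u b = conj (etaW p M a η u b) := by
  by_cases h : ∃ x, LEIdx p M (conjIdx x b) a
  · obtain ⟨x, hx⟩ := h
    rw [etaW_eq hη hb hx, etaW_eq (isStable_conj hη) hb hx]
  · rw [etaW_eq_zero h, etaW_eq_zero h, map_zero]

theorem starW_congr_weight {w w' : G → BrauerPairIdx G → ℂ}
    (h : ∀ (u : G) (b : BrauerPairIdx G), b.1 = Subgroup.zpowers u → w u b = w' u b)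
    (χ : G → ℂ) : starW p M w χ = starW p M w' χ := by
  funext g
  unfold starW
  refine finsum_mem_congr rfl fun b hb => ?_
  rw [h _ b hb.1]

theorem isClassFunction_star {η : G → ℂ} (hη : IsStable p M a η) {χ : G → ℂ}
    (hχ : IsClassFunction G χ) : IsClassFunction G (star p M a η χ) :=
  isClassFunction_starW (isWInv_etaW hη) hχ

theorem star_star (hM : IsPModular p M) {η η' : G → ℂ} (hη : IsStable p M a η)
    (hη' : IsStable p M a η') {χ : G → ℂ} (hχ : IsClassFunction G χ) :
    star p M a η (star p M a η' χ) = star p M a (fun g => η g * η' g) χ := by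
  unfold H651.star
  rw [starW_starW hM _ (isWInv_etaW hη') hχ]
  exact starW_congr_weight (fun u b hb => (etaW_mul hη hη' hb).symm) χ

/-- The weight of a Brauer pair of `B`. -/
theorem exists_etaW_eq (hM : IsPModular p M) (hmax : IsMaximalBrauerPair p M B a.1 a.2) {u : G}
    {f : Set (IrrCharacter (Cz u))} (hf : IsBrauerPairOf p M B (Subgroup.zpowers u) f) :
    ∃ x : G, x * u * x⁻¹ ∈ a.1 ∧ ∀ η : G → ℂ, IsStable p M a η →
      etaW p M a η u ⟨Subgroup.zpowers u, f⟩ = η (x * u * x⁻¹) := by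
  obtain ⟨x, hx⟩ := exists_conj_leIdx hM hmax hf
  refine ⟨x, ?_, fun η hη => etaW_eq hη rfl hx⟩
  refine LEIdx.le hx ?_
  rw [conjIdx_fst, MonoidHom.map_zpowers]
  exact Subgroup.mem_zpowers _

theorem star_const (hM : IsPModular p M) (hmax : IsMaximalBrauerPair p M B a.1 a.2) (c : ℂ)
    {χ : IrrCharacter G} (hχ : χ ∈ B) :
    star p M a (fun _ => c) (χ : G → ℂ) = c • (χ : G → ℂ) := by
  have h1 : star p M a (fun _ => c) (χ : G → ℂ) = starW p M (fun _ _ => c) (χ : G → ℂ) := by
    refine starW_congr_of_mem hM hmax.1.2.1 hχ fun u _ f hf => ?_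
    obtain ⟨x, -, hx⟩ := exists_etaW_eq hM hmax hf
    exact hx _ (isStable_const c)
  rw [h1]
  funext g
  obtain ⟨hu, s, hs, hg⟩ := exists_pp_mul (p := p) g
  have hc := irr_isClassFunction χ.2
  rw [← hg, starW_apply hM _ hc hu hs]
  have h2 := wSum_smul_weight M c (fun _ => 1) (secFun (pp p g) (χ : G → ℂ))
  simp only [mul_one] at h2
  rw [h2, wSum_one M (isClassFunction_secFun hc _)]
  rfl

theorem star_one (hM : IsPModular p M) (hmax : IsMaximalBrauerPair p M B a.1 a.2)
    {χ : IrrCharacter G} (hχ : χ ∈ B) : star p M a (fun _ => 1) (χ : G → ℂ) = χ := by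
  rw [star_const hM hmax 1 hχ, one_smul]

/-- `star η χ` depends only on the restriction of `η` to `P`. -/
theorem star_congr (hM : IsPModular p M) (hmax : IsMaximalBrauerPair p M B a.1 a.2)
    {η η' : G → ℂ} (hη : IsStable p M a η) (hη' : IsStable p M a η')
    (h : ∀ g ∈ a.1, η g = η' g) {χ : IrrCharacter G} (hχ : χ ∈ B) :
    star p M a η (χ : G → ℂ) = star p M a η' (χ : G → ℂ) := by
  refine starW_congr_of_mem hM hmax.1.2.1 hχ fun u _ f hf => ?_
  obtain ⟨x, hx1, hx⟩ := exists_etaW_eq hM hmax hf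
  rw [hx _ hη, hx _ hη', h _ hx1]

theorem orderOf_one_eq : ∃ k : ℕ, orderOf (1 : G) = p ^ k := ⟨0, by simp⟩

/-- The values on the `p`-regular elements. -/
theorem star_apply_reg (hM : IsPModular p M) (hmax : IsMaximalBrauerPair p M B a.1 a.2)
    {η : G → ℂ} (hη : IsStable p M a η) {χ : IrrCharacter G} (hχ : χ ∈ B) {s : G}
    (hs : ¬ p ∣ orderOf s) : star p M a η (χ : G → ℂ) s = η 1 * (χ : G → ℂ) s := by
  have hc := irr_isClassFunction χ.2
  have hsC : s ∈ Cz (1 : G) := mem_Cz_iff.2 (Commute.one_left s)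
  have hs' : ¬ p ∣ orderOf (⟨s, hsC⟩ : Cz (1 : G)) := by rwa [orderOf_coe_dvd]
  have h1 := starW_apply hM (etaW p M a η) hc (u := (1 : G)) orderOf_one_eq hs'
  have h2 := starW_apply hM (fun _ _ => η 1) hc (u := (1 : G)) orderOf_one_eq hs'
  rw [one_mul] at h1 h2
  have h3 : starW p M (etaW p M a η) (χ : G → ℂ) s = starW p M (fun _ _ => η 1) (χ : G → ℂ) s := by
    rw [h1, h2]
    refine wSum_congr hM fun f hf => ?_
    by_cases h4 : IsBrauerPairOf p M B (Subgroup.zpowers (1 : G)) f
    · left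
      obtain ⟨x, -, hx⟩ := exists_etaW_eq hM hmax h4
      rw [hx _ hη]
      simp
    · exact Or.inr (blockPart_secFun_eq_zero hM hmax.1.2.1 hχ orderOf_one_eq hf h4 hs')
  have h5 := congrFun (star_const hM hmax (η 1) hχ) s
  have h6 : star p M a (fun _ => η 1) (χ : G → ℂ) = starW p M (fun _ _ => η 1) (χ : G → ℂ) := by
    refine starW_congr_of_mem hM hmax.1.2.1 hχ fun u _ f hf => ?_
    obtain ⟨x, -, hx⟩ := exists_etaW_eq hM hmax hf
    exact hx _ (isStable_const (η 1))
  rw [h6] at h5
  exact h3.trans h5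

theorem classInner_star_star [Fintype G] (hM : IsPModular p M) {η η' : G → ℂ}
    (hη : IsStable p M a η) (hη' : IsStable p M a η') {χ ψ : G → ℂ}
    (hχ : IsClassFunction G χ) (hψ : IsClassFunction G ψ) :
    classInner (star p M a η χ) (star p M a η' ψ) =
      classInner (star p M a (fun g => η g * conj (η' g)) χ) ψ := by
  unfold H651.star
  rw [classInner_starW_starW hM _ _ hχ hψ]
  congr 1
  refine starW_congr_weight (fun u b hb => ?_) χ
  rw [etaW_mul hη (isStable_conj hη') hb, etaW_conj' hη' hb]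

/-- `star η χ` lies in the span of `B`. -/
theorem classInner_star_of_notMem [Fintype G] (hM : IsPModular p M)
    (hB : IsPBlock M B) {η : G → ℂ} {χ ψ : IrrCharacter G} (hχ : χ ∈ B) (hψ : ψ ∉ B) :
    classInner (star p M a η (χ : G → ℂ)) (ψ : G → ℂ) = 0 := by
  classical
  have hcχ := irr_isClassFunction χ.2
  have hcψ := irr_isClassFunction ψ.2
  have : ∀ u : G, Fintype (Cz u) := fun u => Fintype.ofFinite _
  have hMp := isPrime_of_isPModular hM
  rw [classInner_eq_sum_regForm (p := p)]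
  rw [Finset.sum_eq_zero, mul_zero]
  intro u hu
  have hu' := (Finset.mem_filter.1 hu).2
  -- the weights: supported on pairs of `B` on the left, on pairs of the block of `ψ` on the right
  set ω : Set (IrrCharacter (Cz u)) → ℂ := fun f => etaW p M a η u ⟨Subgroup.zpowers u, f⟩
  set ω₁ : Set (IrrCharacter (Cz u)) → ℂ := fun f =>
    if IsBrauerPairOf p M B (Subgroup.zpowers u) f then ω f else 0
  set ω₂ : Set (IrrCharacter (Cz u)) → ℂ := fun f =>
    if IsBrauerPairOf p M (blockOf M (ψ : G → ℂ)) (Subgroup.zpowers u) f then 1 else 0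
  have h1 : ∀ s : Cz u, ¬ p ∣ orderOf s → secFun u (star p M a η (χ : G → ℂ)) s =
      wSum M ω₁ (secFun u (χ : G → ℂ)) s := by
    intro s hs
    refine (starW_apply hM _ hcχ hu' hs).trans ?_
    refine wSum_congr hM fun f hf => ?_
    by_cases h : IsBrauerPairOf p M B (Subgroup.zpowers u) f
    · left
      exact (if_pos h).symm
    · right
      exact blockPart_secFun_eq_zero hM hB hχ hu' hf h hs
  have h2 : ∀ s : Cz u, ¬ p ∣ orderOf s → secFun u (ψ : G → ℂ) s =
      wSum M ω₂ (secFun u (ψ : G → ℂ)) s := by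
    intro s hs
    have h3 := congrFun (wSum_one M (isClassFunction_secFun hcψ u)) s
    rw [← h3]
    refine wSum_congr hM fun f hf => ?_
    by_cases h : IsBrauerPairOf p M (blockOf M (ψ : G → ℂ)) (Subgroup.zpowers u) f
    · left
      exact (if_pos h).symm
    · right
      exact blockPart_secFun_eq_zero hM (isPBlock_blockOf ψ) (mem_blockOf_self ψ) hu' hf h hs
  rw [regForm_congr h1 h2, regForm_wSum hM (isClassFunction_secFun hcψ u)]
  have h4 : (fun f => ω₁ f * conj (ω₂ f)) = fun _ => 0 := by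
    funext f
    simp only [ω₁, ω₂]
    split_ifs with h5 h6
    · exfalso
      apply hψ
      have h7 : B = blockOf M (ψ : G → ℂ) := by
        obtain ⟨B', -, h8⟩ := H644.existsUnique_isBrauerPairOf hM h5.1
        rw [h8 _ h5, ← h8 _ h6]
      rw [h7]
      exact mem_blockOf_self ψ
    · simp
    · simp
    · simp
  rw [h4, regForm_def]
  refine Finset.sum_eq_zero fun s _ => ?_
  have h5 : wSum M (fun _ => 0) (secFun u (χ : G → ℂ)) s = 0 := by
    rw [wSum_eq_finsum, finsum_mem_eq_zero_of_forall_eq_zero]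
    intro f _
    rw [zero_mul]
  rw [h5, zero_mul]

/-- The norm of `star λ χ` for `|λ| = 1`. -/
theorem classInner_star_self [Fintype G] (hM : IsPModular p M)
    (hmax : IsMaximalBrauerPair p M B a.1 a.2) {η : G → ℂ} (hη : IsStable p M a η)
    (h1 : ∀ g ∈ a.1, η g * conj (η g) = 1) {χ ψ : IrrCharacter G} (hχ : χ ∈ B) :
    classInner (star p M a η (χ : G → ℂ)) (star p M a η (ψ : G → ℂ)) =
      classInner (χ : G → ℂ) (ψ : G → ℂ) := by
  rw [classInner_star_star hM hη hη (irr_isClassFunction χ.2) (irr_isClassFunction ψ.2)]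
  congr 1
  rw [star_congr hM hmax (isStable_mul hη (isStable_conj hη)) (isStable_const 1) h1 hχ, star_one hM hmax hχ]

/-- If `star λ χ` is a generalized character, `|λ| = 1` on `P` and `λ 1 = 1`, then it is an
irreducible character of `B`. -/
theorem star_isIrr (hM : IsPModular p M) (hmax : IsMaximalBrauerPair p M B a.1 a.2)
    {η : G → ℂ} (hη : IsStable p M a η) (h1 : ∀ g ∈ a.1, η g * conj (η g) = 1) (h2 : η 1 = 1)
    {χ : IrrCharacter G} (hχ : χ ∈ B)
    (hgen : IsGeneralizedCharacter G (star p M a η (χ : G → ℂ))) :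
    IsIrrCharacter G (star p M a η (χ : G → ℂ)) := by
  have := Fintype.ofFinite G
  have h3 : classInner (star p M a η (χ : G → ℂ)) (star p M a η (χ : G → ℂ)) = 1 := by
    rw [classInner_star_self hM hmax hη h1 hχ, Characters.Core.classInner_irr_self χ.2]
  have h4 : star p M a η (χ : G → ℂ) 1 = (χ : G → ℂ) 1 := by
    have hp : ¬ p ∣ orderOf (1 : G) := by
      rw [orderOf_one, Nat.dvd_one]
      exact (Fact.out : p.Prime).ne_one
    rw [star_apply_reg hM hmax hη hχ hp, h2, one_mul]
  rcases Characters.Core.isIrr_of_generalized hgen h3 with h5 | h5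
  · exact h5
  · exfalso
    obtain ⟨n, hn, hn'⟩ := Characters.Core.isIrr_apply_one h5
    obtain ⟨m, hm, hm'⟩ := Characters.Core.isIrr_apply_one χ.2
    rw [Pi.neg_apply, h4, hm'] at hn'
    have h6 : ((m : ℤ) + n : ℤ) = 0 := by
      have h7 : ((m : ℂ) + n) = 0 := by rw [← hn']; ring
      exact_mod_cast h7
    omega

theorem star_mem (hM : IsPModular p M) (hmax : IsMaximalBrauerPair p M B a.1 a.2)
    {η : G → ℂ} {χ : IrrCharacter G} (hχ : χ ∈ B)
    (hirr : IsIrrCharacter G (star p M a η (χ : G → ℂ))) :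
    (⟨star p M a η (χ : G → ℂ), hirr⟩ : IrrCharacter G) ∈ B := by
  have := Fintype.ofFinite G
  by_contra hcon
  have h1 := classInner_star_of_notMem hM hmax.1.2.1 (a := a) (η := η) hχ hcon
  change classInner (star p M a η (χ : G → ℂ)) (star p M a η (χ : G → ℂ)) = 0 at h1
  rw [Characters.Core.classInner_irr_self hirr] at h1
  exact one_ne_zero h1

end Star

end Cfsg.Agent.H650
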