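import Cfsg.Agent.H650.GowRgd
import Cfsg.Agent.KFacts.RgdChevCoord
import Cfsg.Agent.Nodes.KindChev
import Cfsg.Agent.BpExc.TorChev

/-!
# S4913: the Chevalley groups `E₆(q)`, `E₇(q)`, `E₈(q)`, `F₄(q)`, `q` even, `q ≡ 1 (mod 3)` (helper650)

* `TE D l t d` : decidable facts about the highest root `t`;
* `ratOdd_of_te` : `RatOdd (D.group K)` for a finite field of characteristic two with `3 ∣ |K| - 1`;
* `ratOdd_one_mod` : the rows.
-/

set_option autoImplicit false
set_option linter.unusedSectionVars false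

namespace Cfsg.Agent.H650.GowChev

open CoxeterSystem Cfsg.Agent.ChevalleyStructure.CoxeterGeom Cfsg.Agent.Tits.Roots Cfsg.Agent.Tits.Core
  Cfsg.Agent.Tits.Exchange Cfsg.Agent.Nodes.Reps Cfsg.Agent.Nodes.BNOf Cfsg.Agent.Nodes.StabComb
  Cfsg.Agent.Nodes.Bruhat Cfsg.Agent.Nodes.OppDec Cfsg.Agent.Nodes.LeviDec Cfsg.Agent.Nodes.NormX
  Cfsg.Agent.KFacts.RgdOpp Cfsg.Agent.KFacts.RgdAut Cfsg.Agent.KFacts.RgdDiag Cfsg.Agent.KFacts.RgdAutFacts
  Cfsg.Agent.KFacts.RgdField Cfsg.Agent.KFacts.RgdChevCoord Cfsg.Agent.Nodes.RGDChev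
  Cfsg.Agent.Nodes.KindChev Cfsg.Agent.H687 Cfsg.Agent.H636.Gow Cfsg.Agent.H650.GowLin Cfsg.Agent.H650.GowRgd
open Cfsg.Lie Cfsg.Agent.ChevalleyStructure Cfsg.Agent.ChevalleyStructure.Elts
  Cfsg.Agent.ChevalleyStructure.RootVec
  Cfsg.Agent.ChevalleyStructure.NPerm Cfsg.Agent.ChevalleyStructure.CoxeterGeomTypes
open scoped commutatorElement

universe u

/-- Facts about the highest root `t`. -/
structure TE (D : ChevalleyDatum) (l t : ℕ) (d : Fin l → ℤ) : Prop where
  lt : t < D.nroots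
  hd : ∀ i j, d i * cartanOf D l i j = d j * cartanOf D l j i
  high : ∀ r < D.nroots, ∀ k : Fin l, vec D l r k ≤ vec D l t k
  dom : ∀ i : Fin l, 0 ≤ D.cartan i t
  n1 : ∃ j : Fin l, D.cartan j t % 3 ≠ 0
  n3 : ∀ r < D.nroots, qf (cartanOf D l) d (vec D l r) (vec D l r) = qf (cartanOf D l) d (vec D l t) (vec D l t) →
    r ≠ t → ∃ j : Fin l, (D.cartan j t - D.cartan j r) % 3 ≠ 0

section

variable {D : ChevalleyDatum} {l : ℕ} {M : CoxeterMatrix (Fin l)} (hp : IsType D l M) {K : Type u} [Field K]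
  {W : Type*} [Group W] (cs : CoxeterSystem M W) {t : ℕ} {d : Fin l → ℤ}

theorem fullChar' (j : Fin l) {x : Fin l → ℤ} (hx : IsRoot cs hp.isCartan x) {a : K} (ha : a ≠ 0) :
    ch (K := K) hp x (hc hp j a) = a ^ pairing (cartanOf D l) j x := by
  obtain ⟨r, hr, rfl⟩ := (isRoot_iff hp cs x).1 hx
  rw [ch_hc hp j ha hr, pairing_vec hp j hr]

include hp in
/-- a root group of a positive root commutes with the one of the highest root -/
theorem comm_high (T : TE D l t d) {r : ℕ} (hr : r < D.nroots) (h0 : 0 ≤ vec D l r) (hrt : r ≠ t) {u v : ↥(D.group K)}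
    (hu : u ∈ XX D l K (vec D l r)) (hv : v ∈ XX D l K (vec D l t)) : u * v = v * u := by
  have hne : r ≠ D.neg t := by
    rintro rfl
    rw [vec_neg hp T.lt] at h0
    have h2 : vec D l t = 0 := by
      funext k
      have h3 := h0 k
      have h4 := T.high _ (neg_lt hp.inList T.lt) k
      rw [vec_neg hp T.lt, Pi.neg_apply] at h4
      have h3' : 0 ≤ -(vec D l t k) := h3
      have h4' : -(vec D l t k) ≤ vec D l t k := h4
      show vec D l t k = 0
      omega
    let cs' : CoxeterSystem M M.Group := M.toCoxeterSystem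
    exact (isRoot_vec hp cs' T.lt).ne_zero h2
  rw [Subgroup.mem_subgroupOf, XV_vec hp K hr, mem_rootSubgroup_iff hp.inList] at hu
  rw [Subgroup.mem_subgroupOf, XV_vec hp K T.lt, mem_rootSubgroup_iff hp.inList] at hv
  obtain ⟨a, ha⟩ := hu
  obtain ⟨b, hb⟩ := hv
  have hnil : D.commTerms t r = [] := by
    rw [List.eq_nil_iff_forall_not_mem]
    rintro ⟨v, C, i, j⟩ hv
    obtain ⟨h1, -, -, h2, h3, h4⟩ := commTerms_rt hp.checked hv
    let cs' : CoxeterSystem M M.Group := M.toCoxeterSystem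
    apply (isRoot_vec hp cs' hr).ne_zero
    funext k
    have h5 := h4 k
    have h6 := T.high v h1 k
    have h7 := h0 k
    rw [← vec_apply (l := l), ← vec_apply (l := l), ← vec_apply (l := l)] at h5
    have h8 := T.high _ (neg_lt hp.inList T.lt) k
    rw [vec_neg hp T.lt, Pi.neg_apply] at h8
    rw [Pi.zero_apply] at h7 ⊢
    have h2' : (1 : ℤ) ≤ (i : ℤ) := by exact_mod_cast h2
    have h3' : (1 : ℤ) ≤ (j : ℤ) := by exact_mod_cast h3
    have h9 : 0 ≤ vec D l t k := by omega
    nlinarith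
  have h1 := comm_xG hp T.lt hr hrt hne (K := K) (-b) (-a)
  have h2 : wordG hp.inList (D.commWord K t r (-b) (-a)) = 1 := by
    have : D.commWord K t r (-b) (-a) = [] := by
      unfold ChevalleyDatum.commWord
      rw [hnil]; rfl
    rw [this]; rfl
  rw [h2, xG_inv, xG_inv, _root_.neg_neg, _root_.neg_neg, commutatorElement_eq_one_iff_mul_comm, ← ha, ← hb] at h1
  exact Subtype.ext h1

include hp in
/-- **The case `q ≡ 1 (mod 3)`.** -/
theorem ratOdd_of_te [Finite K] [CharP K 2] (h3 : 3 ∣ Nat.card Kˣ) (T : TE D l t d) : RatOdd ↥(D.group K) := by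
  have : Fact (Nat.Prime 2) := ⟨Nat.prime_two⟩
  let cs : CoxeterSystem M M.Group := M.toCoxeterSystem
  have := finite_W hp cs
  have R : RGD cs hp.isCartan 2 (TT D K) (nc hp K) (XX D l K) := rgd (K := K) hp cs 2
  have C := coords (K := K) hp cs 2
  have hθ : IsRoot cs hp.isCartan (vec D l t) := isRoot_vec hp cs T.lt
  have hdom : Dom (cartanOf D l) (vec D l t) := fun i => by
    rw [pairing_vec hp i T.lt]; exact T.dom i
  have hG : GG cs hp.isCartan (TT D K) (XX D l K) = ⊤ := by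
    have := gen (K := K) hp cs 2
    rw [eq_top_iff, ← this]
    exact sup_le (B_le_GG) (NN_le_GG R)
  have hCθ := C.coord _ hθ
  have hcomm : ∀ x, IsRoot cs hp.isCartan x → 0 ≤ x → ∀ u ∈ XX D l K x, ∀ a,
      u * xc hp (vec D l t) a = xc hp (vec D l t) a * u := by
    intro x hx h0 u hu a
    obtain ⟨r, hr, rfl⟩ := (isRoot_iff hp cs x).1 hx
    by_cases hrt : r = t
    · subst hrt
      obtain ⟨b, rfl⟩ := (hCθ.mem _).1 hu
      rw [← hCθ.add, ← hCθ.add, add_comm]
    · exact comm_high hp T hr h0 hrt hu ((hCθ.mem _).2 ⟨a, rfl⟩)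
  -- the Borel subgroup acts by scalars
  have hB : RGD.B cs hp.isCartan (TT D K) (XX D l K) ≤ SP (xc (K := K) hp (vec D l t)) := by
    refine sup_le (fun s hs => ?_) (RGD.Sup_le fun x hx => ?_)
    · exact ⟨Units.mk0 _ (hCθ.chi_ne_zero hs), fun a => hCθ.act s hs a⟩
    · intro u hu
      exact ⟨1, by rw [Units.val_one]; exact sc_comm (hcomm x hx.1 hx.2 u hu)⟩
  have hBN : RGD.B cs hp.isCartan (TT D K) (XX D l K) ≤
      Subgroup.normalizer (XX D l K (vec D l t) : Set ↥(D.group K)) := by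
    intro g hg
    obtain ⟨c, hc⟩ := hB hg
    rw [Subgroup.mem_normalizer_iff]
    intro x
    constructor
    · intro hx
      obtain ⟨a, rfl⟩ := (hCθ.mem x).1 hx
      exact (hCθ.mem _).2 ⟨_, (hc a).symm⟩
    · intro hx
      obtain ⟨a, ha⟩ := (hCθ.mem _).1 hx
      have h3 := Sc.inv hc a
      rw [ha] at h3
      have h4 : g⁻¹ * (g * x * g⁻¹) * g⁻¹⁻¹ = x := by group
      rw [h4] at h3
      exact (hCθ.mem _).2 ⟨_, h3.symm⟩
  have L : Long R (vec D l t) (XX D l K (vec D l t)) := long_X R hθ hdom hBN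
  have hpair : ∀ (w : M.Group) (r : ℕ), r < D.nroots → rep cs hp.isCartan w (vec D l t) = vec D l r →
      ∀ j, pairing (cartanOf D l) j (rep cs hp.isCartan w (vec D l t)) = D.cartan j r := by
    intro w r hr e j
    rw [e, pairing_vec hp j hr]
  have hqf : ∀ (w : M.Group) (r : ℕ), rep cs hp.isCartan w (vec D l t) = vec D l r →
      qf (cartanOf D l) d (vec D l r) (vec D l r) = qf (cartanOf D l) d (vec D l t) (vec D l t) := by
    intro w r e
    rw [← e, qf_rep cs hp.isCartan T.hd]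
  obtain ⟨lam, hl3, hl⟩ := exists_lam (F := K) h3
  -- representatives
  have hk : ∀ w k, Rp cs R.nsys w k → ∃ c : K, c ≠ 0 ∧ ∀ a, k * xc hp (vec D l t) a * k⁻¹ =
      xc hp (rep cs hp.isCartan w (vec D l t)) (c * a) := by
    intro w k hk
    refine Cfsg.Agent.H967.ThRgd.exists_scalar (R := R) (r := vec D l t) (x := xc (K := K) hp) ?_ ?_ hk
    · intro s hs w
      have h5 := C.coord _ (hθ.act w)
      exact ⟨_, h5.chi_ne_zero hs, h5.act s hs⟩
    · intro i w
      obtain ⟨c, hc, e⟩ := C.nact i _ (hθ.act w)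
      refine ⟨c, hc, fun a => ?_⟩
      rw [e, rep_mul_apply]
  have htor : ∀ (j : Fin l) (e : Kˣ) (w : M.Group) (a : K), hc hp j (e : K) *
      xc hp (rep cs hp.isCartan w (vec D l t)) a * (hc hp j (e : K))⁻¹ =
      xc hp (rep cs hp.isCartan w (vec D l t))
        (((e ^ pairing (cartanOf D l) j (rep cs hp.isCartan w (vec D l t)) : Kˣ) : K) * a) := by
    intro j e w a
    have h5 := C.coord _ (hθ.act w)
    rw [h5.act _ (hc_mem hp j e.ne_zero), fullChar' hp cs j (hθ.act w) e.ne_zero, Units.val_zpow_eq_zpow_val]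
  have hwit : ∀ (j : Fin l) w k, Rp cs R.nsys w k → Wit (xc (K := K) hp (vec D l t)) k
      (pairing (cartanOf D l) j (vec D l t)) (pairing (cartanOf D l) j (rep cs hp.isCartan w (vec D l t))) := by
    intro j w k hk' e
    obtain ⟨c, hc0, h5⟩ := hk w k hk'
    refine ⟨hc hp j (e : K), ?_, ?_⟩
    · have h6 := htor j e 1
      simp only [map_one, Module.End.one_apply] at h6
      exact h6
    · intro a
      have e1 : k⁻¹ * hc hp j (e : K) * k * xc hp (vec D l t) a * (k⁻¹ * hc hp j (e : K) * k)⁻¹ =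
          k⁻¹ * (hc hp j (e : K) * (k * xc hp (vec D l t) a * k⁻¹) * (hc hp j (e : K))⁻¹) * k := by group
      rw [e1, h5, htor]
      have e2 : ((e ^ pairing (cartanOf D l) j (rep cs hp.isCartan w (vec D l t)) : Kˣ) : K) * (c * a) =
          c * (((e ^ pairing (cartanOf D l) j (rep cs hp.isCartan w (vec D l t)) : Kˣ) : K) * a) := by ring
      rw [e2, ← h5]
      group
  refine ratOdd_rgd R hG L (z := xc (K := K) hp (vec D l t)) hCθ.inj hCθ.mem hl3 hl hB ?_ ?_ ?_ ?_ ?_
  · intro w k hk' hw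
    obtain ⟨c, hc0, h5⟩ := hk w k hk'
    rw [hw] at h5
    exact ⟨Units.mk0 c hc0, h5⟩
  · obtain ⟨j, hj⟩ := T.n1
    refine ⟨pairing (cartanOf D l) j (vec D l t), ?_, ?_⟩
    · have h5 := hwit j 1 1 (rp_of_mem (one_mem _))
      rwa [map_one, Module.End.one_apply] at h5
    · rw [pairing_vec hp j T.lt]
      exact fun h => hj (Int.emod_eq_zero_of_dvd h)
  · intro w k hk' hw
    obtain ⟨r, hr, e⟩ := (isRoot_iff hp cs _).1 (hθ.act w)
    obtain ⟨j, hj⟩ := T.n3 r hr (hqf w r e.symm) (fun h1 => hw (by rw [← e, h1]))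
    refine ⟨_, _, hwit j w k hk', ?_⟩
    rw [hpair w r hr e.symm, pairing_vec hp j T.lt]
    exact fun h => hj (Int.emod_eq_zero_of_dvd h)
  · intro w k hk' hw s hs c c' hc1 hc2
    have hs' : k⁻¹ * s * k ∈ TT D K := by
      have := (Subgroup.mem_normalizer_iff.1 (inv_mem hk'.mem_normalizer) s).1 hs
      rwa [inv_inv] at this
    have e1 : (c : K) = ch hp (vec D l t) s := by
      have h5 := (hc1 1).symm.trans (hCθ.act s hs 1)
      have h6 := hCθ.inj h5
      rwa [mul_one, mul_one] at h6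
    have e2 : (c' : K) = ch hp (vec D l t) (k⁻¹ * s * k) := by
      have h5 := (hc2 1).symm.trans (hCθ.act _ hs' 1)
      have h6 := hCθ.inj h5
      rwa [mul_one, mul_one] at h6
    have e3 : ch hp (vec D l t) (k⁻¹ * s * k) = ch hp (-vec D l t) s := by
      have h5 := C.chi_rp R.nsys hk' hθ hs'
      have h6 : k * (k⁻¹ * s * k) * k⁻¹ = s := by group
      rw [h6, hw] at h5
      exact h5.symm
    have e4 : ch hp (vec D l t) s * ch hp (-vec D l t) s = 1 := by
      obtain ⟨φ, h0, hadd, hφ⟩ := Cfsg.Agent.BpExc.TorChev.chAdd hp cs 2 s hs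
      rw [hφ _ hθ, hφ _ hθ.neg, ← hadd, add_neg_cancel, h0]
    have e5 : c * c' = 1 := by
      apply Units.ext
      rw [Units.val_mul, e1, e2, e3, e4, Units.val_one]
    rw [e5, map_one]
  · intro i hi x hx a
    exact hcomm _ (isRoot_sr cs hp.isCartan i) (sr_nonneg i) x hx a

end

/-! ### the tables -/

set_option backward.isDefEq.respectTransparency false in
theorem te6 : TE chevE6 6 71 (fun _ => 1) := by
  constructor <;> decide +kernel

set_option backward.isDefEq.respectTransparency false in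
theorem te7 : TE chevE7 7 125 (fun _ => 1) := by
  constructor <;> decide +kernel

set_option backward.isDefEq.respectTransparency false in
theorem te8 : TE chevE8 8 239 (fun _ => 1) := by
  constructor <;> decide +kernel

set_option backward.isDefEq.respectTransparency false in
theorem te4 : TE chevF4 4 47 ![1, 1, 2, 2] := by
  constructor <;> decide +kernel

theorem isType4 : IsType chevF4 4 CoxeterMatrix.F₄ := by simp [IsType, typeList]
theorem isType6 : IsType chevE6 6 CoxeterMatrix.E₆ := by simp [IsType, typeList]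
theorem isType7 : IsType chevE7 7 CoxeterMatrix.E₇ := by simp [IsType, typeList]
theorem isType8 : IsType chevE8 8 CoxeterMatrix.E₈ := by simp [IsType, typeList]

/-- **The rows `F₄`, `E₆`, `E₇`, `E₈`, `q ≡ 1 (mod 3)`.** -/
theorem ratOdd_one_mod {F : Type u} [Field F] [Fintype F] [CharP F 2] (h3 : 3 ∣ Fintype.card F - 1)
    (D : ChevalleyDatum) (hD : D ∈ [chevF4, chevE6, chevE7, chevE8]) : RatOdd ↥(D.group F) := by
  have h : 3 ∣ Nat.card Fˣ := by
    classical
    rw [Nat.card_eq_fintype_card, Fintype.card_units]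
    exact h3
  simp only [List.mem_cons, List.not_mem_nil, or_false] at hD
  rcases hD with rfl | rfl | rfl | rfl
  · exact ratOdd_of_te isType4 h te4
  · exact ratOdd_of_te isType6 h te6
  · exact ratOdd_of_te isType7 h te7
  · exact ratOdd_of_te isType8 h te8

end Cfsg.Agent.H650.GowChev
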