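import Mathlib

/-!
# Annihilators in the group of linear characters (helper650)

* `ann K`: the linear characters `P →* ℂˣ` trivial on `K`; `card_ann`: there are `[P : K]` of them if
  `K` contains the commutators;
* `relIndex_ann`: `[ann K₁ : ann K₂] = [K₂ : K₁]` for `K₁ ≤ K₂`;
* `index_dvd_card`: if all stabilizers are contained in `A₀`, then `[A : A₀]` divides the number of
  points.
-/

set_option autoImplicit false

namespace Cfsg.Agent.H650

section Ann

variable {P : Type*} [Group P]

/-- The linear characters of `P` trivial on `K`. -/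
def ann (K : Subgroup P) : Subgroup (P →* ℂˣ) where
  carrier := {l | ∀ x ∈ K, l x = 1}
  mul_mem' := by
    intro a b ha hb x hx
    rw [MonoidHom.mul_apply, ha x hx, hb x hx, mul_one]
  one_mem' := fun _ _ => rfl
  inv_mem' := by
    intro a ha x hx
    rw [MonoidHom.inv_apply, ha x hx, inv_one]

theorem mem_ann {K : Subgroup P} {l : P →* ℂˣ} : l ∈ ann K ↔ ∀ x ∈ K, l x = 1 := Iff.rfl

theorem ann_anti {K L : Subgroup P} (h : K ≤ L) : ann L ≤ ann K := fun _ hl x hx => hl x (h hx)

theorem normal_of_commutator {K : Subgroup P} (hK : ∀ x y : P, x⁻¹ * (y * x * y⁻¹) ∈ K) :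
    K.Normal := by
  refine ⟨fun x hx y => ?_⟩
  have h1 := K.mul_mem hx (hK x y)
  rwa [mul_inv_cancel_left] at h1

theorem card_ann [Finite P] {K : Subgroup P} (hK : ∀ x y : P, x⁻¹ * (y * x * y⁻¹) ∈ K) :
    Nat.card (ann K) = K.index := by
  have hKn : K.Normal := normal_of_commutator hK
  let _ : CommGroup (P ⧸ K) :=
    { (inferInstance : Group (P ⧸ K)) with
      mul_comm := by
        intro a b
        obtain ⟨x, rfl⟩ := QuotientGroup.mk_surjective a
        obtain ⟨y, rfl⟩ := QuotientGroup.mk_surjective b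
        rw [← QuotientGroup.mk_mul, ← QuotientGroup.mk_mul, QuotientGroup.eq]
        have h1 := hK (y * x) (y⁻¹ )
        have h2 : (y * x)⁻¹ * (y⁻¹ * (y * x) * y⁻¹⁻¹) = (y * x)⁻¹ * (x * y) := by group
        rw [h2] at h1
        have h3 := K.inv_mem h1
        have h4 : ((y * x)⁻¹ * (x * y))⁻¹ = (x * y)⁻¹ * (y * x) := by group
        rwa [h4] at h3 }
  have h1 : Nat.card ((P ⧸ K) →* ℂˣ) = Nat.card (P ⧸ K) :=
    CommGroup.card_monoidHom_of_hasEnoughRootsOfUnity (P ⧸ K) ℂ
  rw [Subgroup.index, ← h1]
  refine Nat.card_congr ?_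
  exact
    { toFun := fun l => QuotientGroup.lift K (l : P →* ℂˣ) l.2
      invFun := fun m => ⟨m.comp (QuotientGroup.mk' K), fun x hx => by
        rw [MonoidHom.comp_apply, QuotientGroup.mk'_apply, (QuotientGroup.eq_one_iff x).2 hx,
          map_one]⟩
      left_inv := fun l => by
        apply Subtype.ext
        ext x
        rfl
      right_inv := fun m => by
        ext x
        rfl }

theorem relIndex_ann [Finite P] {K L : Subgroup P} (hKL : K ≤ L)
    (hK : ∀ x y : P, x⁻¹ * (y * x * y⁻¹) ∈ K) :
    (ann L).relIndex (ann K) = K.relIndex L := by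
  have h1 := Subgroup.relIndex_mul_index hKL
  have h2 := card_ann hK
  have h3 := card_ann (K := L) fun x y => hKL (hK x y)
  have h4 := Subgroup.card_mul_index ((ann L).subgroupOf (ann K))
  rw [Nat.card_congr (Subgroup.subgroupOfEquivOfLe (ann_anti hKL)).toEquiv, h3, h2] at h4
  have h5 : 0 < L.index := Nat.pos_of_ne_zero Subgroup.index_ne_zero_of_finite
  have h6 : L.index * (ann L).relIndex (ann K) = L.index * K.relIndex L := by
    rw [mul_comm L.index (K.relIndex L), h1]
    exact h4
  exact Nat.eq_of_mul_eq_mul_left h5 h6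

end Ann

/-- Orbit counting: if all stabilizers are contained in `A₀`, then `[A : A₀] ∣ |X|`. -/
theorem index_dvd_card {A X : Type*} [Group A] [MulAction A X] [Finite X] (A₀ : Subgroup A)
    (h : ∀ x : X, MulAction.stabilizer A x ≤ A₀) : A₀.index ∣ Nat.card X := by
  classical
  rw [Nat.card_congr (MulAction.selfEquivSigmaOrbitsQuotientStabilizer A X)]
  have h1 : ∀ ω : Quotient (MulAction.orbitRel A X),
      Finite (A ⧸ MulAction.stabilizer A ω.out) := by
    intro ω
    exact Finite.of_equiv _ (MulAction.orbitEquivQuotientStabilizer A ω.out)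
  have := Fintype.ofFinite (Quotient (MulAction.orbitRel A X))
  rw [Nat.card_sigma]
  refine Finset.dvd_sum fun ω _ => ?_
  exact Subgroup.index_dvd_of_le (h ω.out)

end Cfsg.Agent.H650
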