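import Cfsg.Agent.H650.NonVan
import Cfsg.Agent.H650.AnnChar
import Cfsg.Agent.CharDeep.LinearChar
import Cfsg.Prelude.Def_BlockFusion

/-!
# The action of the linear characters of `P / foc(F)` on the characters of `B` (helper650)

`(P, e)` a maximal Brauer pair of `B` with fusion system `F`; `Λ = ann (foc(F))` the group of linear
characters of `P` trivial on the focal subgroup.  `Dat p M B P e F` collects the hypotheses,
including the integrality of the star construction for the members of `Λ`.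

* `Dat.mulAction h`: the action `λ • χ = star λ χ` on the characters of height `h` in `B`;
* `Dat.smul_coe`, `Dat.smul_apply_reg`: it preserves the values on the `p`-regular elements;
* `Dat.eq_one_of_smul_eq`: `λ • χ = χ` implies `λ u = 1` if `χ` does not vanish on `(u, f_u)`;
* `Dat.free`: the action is free on the characters of height zero;
* `Dat.eq_one_of_central`: stabilizers are trivial on the centre of `P`.
-/

set_option autoImplicit false
set_option linter.unusedSectionVars false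

open Cfsg Cfsg.Agent.Blocks.Basic Cfsg.Agent.Blocks.Local Cfsg.Agent.Blocks
open Cfsg.Agent.H649 Cfsg.Agent.H651
open scoped ComplexConjugate

namespace Cfsg.Agent.H650

universe u

variable {G : Type u} [Group G]

/-- Extension by zero of a linear character of `P`. -/
noncomputable def ext0 (P : Subgroup G) (l : P →* ℂˣ) (g : G) : ℂ := by
  classical exact if h : g ∈ P then ((l ⟨g, h⟩ : ℂˣ) : ℂ) else 0

theorem ext0_of_mem {P : Subgroup G} (l : P →* ℂˣ) {g : G} (h : g ∈ P) :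
    ext0 P l g = ((l ⟨g, h⟩ : ℂˣ) : ℂ) := by
  unfold ext0
  rw [dif_pos h]

theorem ext0_of_notMem {P : Subgroup G} (l : P →* ℂˣ) {g : G} (h : g ∉ P) : ext0 P l g = 0 := by
  unfold ext0
  rw [dif_neg h]

theorem ext0_mul {P : Subgroup G} (l l' : P →* ℂˣ) :
    ext0 P (l * l') = fun g => ext0 P l g * ext0 P l' g := by
  funext g
  by_cases h : g ∈ P
  · rw [ext0_of_mem _ h, ext0_of_mem _ h, ext0_of_mem _ h, MonoidHom.mul_apply, Units.val_mul]
  · rw [ext0_of_notMem _ h, ext0_of_notMem _ h, zero_mul]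

theorem ext0_one {P : Subgroup G} {g : G} (h : g ∈ P) : ext0 P 1 g = 1 := by
  rw [ext0_of_mem _ h, MonoidHom.one_apply, Units.val_one]

theorem ext0_apply_one {P : Subgroup G} (l : P →* ℂˣ) : ext0 P l 1 = 1 := by
  rw [ext0_of_mem _ P.one_mem]
  have h1 : (⟨1, P.one_mem⟩ : P) = 1 := rfl
  rw [h1, map_one, Units.val_one]

theorem ext0_mul_conj [Finite G] {P : Subgroup G} (l : P →* ℂˣ) {g : G} (h : g ∈ P) :
    ext0 P l g * conj (ext0 P l g) = 1 := by
  rw [ext0_of_mem _ h, Complex.mul_conj, Complex.normSq_eq_norm_sq]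
  have h1 : ‖((l ⟨g, h⟩ : ℂˣ) : ℂ)‖ = 1 := by
    refine Complex.norm_eq_one_of_pow_eq_one (n := Nat.card P) ?_ Nat.card_pos.ne'
    rw [← Units.val_pow_eq_pow_val, ← map_pow, pow_card_eq_one', map_one, Units.val_one]
  rw [h1]
  norm_num

theorem isGeneralizedCharacter_ext0 [Finite G] {P : Subgroup G} (l : P →* ℂˣ) :
    IsGeneralizedCharacter P (fun x : P => ext0 P l (x : G)) := by
  have h1 : (fun x : P => ext0 P l (x : G)) = fun x : P => ((l x : ℂˣ) : ℂ) := by
    funext x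
    rw [ext0_of_mem _ x.2]
  rw [h1]
  exact ⟨_, 0, CharDeep.LinearChar.isCharacter_of_hom l, Characters.Core.isCharacter_zero,
    (sub_zero _).symm⟩

section Focal

variable {P : Subgroup G} {F : FusionSystem P}

theorem focal_conj_mem (x y : P) : x⁻¹ * (y * x * y⁻¹) ∈ F.focalSubgroup.subgroupOf P := by
  rw [Subgroup.mem_subgroupOf]
  exact Subgroup.subset_closure ⟨P, conjHom P (y : G), x, F.conj_mem le_rfl y.2, rfl⟩

end Focal

variable {p : ℕ} {M : Ideal AlgInt} {B : Set (IrrCharacter G)} {P : Subgroup G}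
  {e : Set (IrrCharacter (Subgroup.centralizer (P : Set G)))} {F : FusionSystem P}

theorem isStable_ext0 (hF : IsBlockFusionSystemOn p M B P e F) {l : P →* ℂˣ}
    (hl : l ∈ ann (F.focalSubgroup.subgroupOf P)) : IsStable p M ⟨P, e⟩ (ext0 P l) := by
  rintro u x ⟨Q, f⟩ hu rfl h1 h2
  have hu' : u ∈ P := hu
  rw [conjIdx_mk] at h2
  have h3 : x * u * x⁻¹ ∈ P := by
    refine LEIdx.le h2 ?_
    exact ⟨u, Subgroup.mem_zpowers u, rfl⟩
  have h4 : conjHom (Subgroup.zpowers u) x ∈ F.Hom (Subgroup.zpowers u) := by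
    rw [hF.2]
    refine ⟨LEIdx.le h1, x, fun v => rfl, LEIdx.le h2, f, h1, h2⟩
  have h5 : (⟨u, hu'⟩ : P)⁻¹ * ⟨x * u * x⁻¹, h3⟩ ∈ F.focalSubgroup.subgroupOf P := by
    rw [Subgroup.mem_subgroupOf]
    exact Subgroup.subset_closure
      ⟨Subgroup.zpowers u, conjHom _ x, ⟨u, Subgroup.mem_zpowers u⟩, h4, rfl⟩
  have h6 := hl _ h5
  rw [map_mul, map_inv, inv_mul_eq_one] at h6
  rw [ext0_of_mem _ hu', ext0_of_mem _ h3, h6]

/-- The hypotheses. -/
structure Dat (p : ℕ) (M : Ideal AlgInt) (B : Set (IrrCharacter G)) (P : Subgroup G)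
    (e : Set (IrrCharacter (Subgroup.centralizer (P : Set G)))) (F : FusionSystem P) : Prop where
  hM : IsPModular p M
  hmax : IsMaximalBrauerPair p M B P e
  hF : IsBlockFusionSystemOn p M B P e F
  gen : ∀ l ∈ ann (F.focalSubgroup.subgroupOf P), ∀ χ ∈ B,
    IsGeneralizedCharacter G (star p M ⟨P, e⟩ (ext0 P l) (χ : G → ℂ))

/-- The group of the linear characters of `P` trivial on the focal subgroup. -/
abbrev Lam (F : FusionSystem P) : Subgroup (P →* ℂˣ) := ann (F.focalSubgroup.subgroupOf P)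

section Act

variable [Finite G] [Fact p.Prime]

theorem Dat.isIrr (D : Dat p M B P e F) {l : P →* ℂˣ} (hl : l ∈ Lam F) {χ : IrrCharacter G}
    (hχ : χ ∈ B) : IsIrrCharacter G (star p M ⟨P, e⟩ (ext0 P l) (χ : G → ℂ)) :=
  star_isIrr D.hM D.hmax (isStable_ext0 D.hF hl) (fun _ hg => ext0_mul_conj l hg)
    (ext0_apply_one l) hχ (D.gen l hl χ hχ)

/-- `star λ χ` as a character. -/
noncomputable def Dat.act (D : Dat p M B P e F) (l : Lam F) (χ : IrrCharacter G) (hχ : χ ∈ B) :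
    IrrCharacter G := ⟨star p M ⟨P, e⟩ (ext0 P (l : P →* ℂˣ)) (χ : G → ℂ), D.isIrr l.2 hχ⟩

theorem Dat.act_coe (D : Dat p M B P e F) (l : Lam F) (χ : IrrCharacter G) (hχ : χ ∈ B) :
    ((D.act l χ hχ : IrrCharacter G) : G → ℂ) =
      star p M ⟨P, e⟩ (ext0 P (l : P →* ℂˣ)) (χ : G → ℂ) := rfl

theorem Dat.act_mem (D : Dat p M B P e F) (l : Lam F) (χ : IrrCharacter G) (hχ : χ ∈ B) :
    D.act l χ hχ ∈ B := star_mem D.hM D.hmax hχ (D.isIrr l.2 hχ)

theorem Dat.act_apply_reg (D : Dat p M B P e F) (l : Lam F) (χ : IrrCharacter G) (hχ : χ ∈ B)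
    {s : G} (hs : ¬ p ∣ orderOf s) : ((D.act l χ hχ : IrrCharacter G) : G → ℂ) s =
      (χ : G → ℂ) s := by
  rw [D.act_coe, star_apply_reg D.hM D.hmax (isStable_ext0 D.hF l.2) hχ hs, ext0_apply_one,
    one_mul]

theorem Dat.act_apply_one (D : Dat p M B P e F) (l : Lam F) (χ : IrrCharacter G) (hχ : χ ∈ B) :
    ((D.act l χ hχ : IrrCharacter G) : G → ℂ) 1 = (χ : G → ℂ) 1 := by
  refine D.act_apply_reg l χ hχ ?_
  rw [orderOf_one, Nat.dvd_one]
  exact (Fact.out : p.Prime).ne_one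

theorem Dat.height_act (D : Dat p M B P e F) (l : Lam F) (χ : IrrCharacter G) (hχ : χ ∈ B) :
    blockHeight p B ((D.act l χ hχ : IrrCharacter G) : G → ℂ) =
      blockHeight p B (χ : G → ℂ) := by
  unfold blockHeight charDegree
  rw [D.act_apply_one]

/-- The characters of height `h` in `B`. -/
abbrev Ht (p : ℕ) (B : Set (IrrCharacter G)) (h : ℕ) : Type u :=
  {χ : IrrCharacter G // χ ∈ B ∧ blockHeight p B (χ : G → ℂ) = h}

/-- The action of `Λ` on the characters of height `h` in `B`. -/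
@[reducible]
noncomputable def Dat.mulAction (D : Dat p M B P e F) (h : ℕ) : MulAction (Lam F) (Ht p B h) where
  smul l χ := ⟨D.act l χ.1 χ.2.1, D.act_mem l χ.1 χ.2.1, by
    rw [D.height_act, χ.2.2]⟩
  one_smul χ := by
    apply Subtype.ext
    apply Subtype.ext
    change star p M ⟨P, e⟩ (ext0 P ((1 : Lam F) : P →* ℂˣ)) (χ.1 : G → ℂ) = _
    rw [star_congr D.hM D.hmax (isStable_ext0 D.hF (1 : Lam F).2) (isStable_const 1)
      (fun g hg => ext0_one hg) χ.2.1, star_one D.hM D.hmax χ.2.1]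
  mul_smul l l' χ := by
    apply Subtype.ext
    apply Subtype.ext
    change star p M ⟨P, e⟩ (ext0 P ((l * l' : Lam F) : P →* ℂˣ)) (χ.1 : G → ℂ) =
      star p M ⟨P, e⟩ (ext0 P (l : P →* ℂˣ)) (star p M ⟨P, e⟩ (ext0 P (l' : P →* ℂˣ))
        (χ.1 : G → ℂ))
    rw [star_star D.hM (isStable_ext0 D.hF l.2) (isStable_ext0 D.hF l'.2)
      (irr_isClassFunction χ.1.2), Subgroup.coe_mul, ext0_mul]

theorem Dat.smul_coe (D : Dat p M B P e F) (h : ℕ) (l : Lam F) (χ : Ht p B h) :
    letI := D.mulAction h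
    (((l • χ : Ht p B h) : IrrCharacter G) : G → ℂ) =
      star p M ⟨P, e⟩ (ext0 P (l : P →* ℂˣ)) ((χ : IrrCharacter G) : G → ℂ) := rfl

/-- If `star λ χ = χ` and `χ` does not vanish on the subsection `(u, f)` below `(P, e)`, then
`λ u = 1`. -/
theorem Dat.eq_one_of_star_eq (D : Dat p M B P e F) {l : P →* ℂˣ} (hl : l ∈ Lam F)
    {χ : IrrCharacter G} (h : star p M ⟨P, e⟩ (ext0 P l) (χ : G → ℂ) = (χ : G → ℂ)) {u : G}
    (hu : u ∈ P) {f : Set (IrrCharacter (Cz u))}
    (hle : SubpairLE p M (Subgroup.zpowers u) f P e)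
    (hne : ∃ s : Cz u, ¬ p ∣ orderOf s ∧ blockPart f (secFun u (χ : G → ℂ)) s ≠ 0) :
    l ⟨u, hu⟩ = 1 := by
  have := isPrime_of_isPModular D.hM
  obtain ⟨s, hs, hs0⟩ := hne
  have hf := SubpairLE.isBrauerPair hle D.hmax.1.1
  have hpu : ∃ k : ℕ, orderOf u = p ^ k := by
    obtain ⟨k, hk⟩ := IsPGroup.iff_card.1 hf.1
    exact ⟨k, by rw [← hk, Nat.card_zpowers]⟩
  have hst := isStable_ext0 D.hF hl
  have h1 := blockPart_secFun_starW D.hM (isWInv_etaW hst) (irr_isClassFunction χ.2) hpu hf.2 hs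
  have h2 : starW p M (etaW p M ⟨P, e⟩ (ext0 P l)) (χ : G → ℂ) = χ := h
  have h3 : etaW p M ⟨P, e⟩ (ext0 P l) u ⟨Subgroup.zpowers u, f⟩ = ext0 P l (1 * u * 1⁻¹) := by
    refine etaW_eq hst rfl ?_
    rw [conjIdx_one]
    exact hle
  rw [h2, h3, one_mul, inv_one, mul_one, ext0_of_mem _ hu] at h1
  have h4 : (((l ⟨u, hu⟩ : ℂˣ) : ℂ) - 1) * blockPart f (secFun u (χ : G → ℂ)) s = 0 := by
    rw [sub_mul, one_mul, ← h1, sub_self]
  have h5 := (mul_eq_zero.1 h4).resolve_right hs0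
  exact Units.ext (sub_eq_zero.1 h5)

end Act

section Fin

variable [Fintype G] [Fact p.Prime]

/-- The action is free on the characters of height zero. -/
theorem Dat.free (D : Dat p M B P e F) {l : P →* ℂˣ} (hl : l ∈ Lam F)
    {χ : IrrCharacter G} (hχ : χ ∈ B) (h0 : blockHeight p B (χ : G → ℂ) = 0)
    (h : star p M ⟨P, e⟩ (ext0 P l) (χ : G → ℂ) = (χ : G → ℂ)) : l = 1 := by
  ext ⟨u, hu⟩
  have hQP : Subgroup.zpowers u ≤ P := by rwa [Subgroup.zpowers_le]
  have hMp : M.IsPrime := isPrime_of_isPModular D.hM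
  obtain ⟨f, hf, -⟩ := H644.existsUnique_subpairLE D.hM D.hmax.1.1 hQP
  have hfB := (H644.isBrauerPairOf_iff_of_subpairLE D.hM hf).1 D.hmax.1
  have hpu : ∃ k : ℕ, orderOf u = p ^ k := by
    obtain ⟨k, hk⟩ := IsPGroup.iff_card.1 hfB.1.1
    exact ⟨k, by rw [← hk, Nat.card_zpowers]⟩
  rw [D.eq_one_of_star_eq hl h hu hf
    (exists_blockPart_ne_zero_of_height D.hM D.hmax.1.2.1 hχ h0 hpu hfB)]
  rfl

/-- Stabilizers are trivial on the centre of `P`. -/
theorem Dat.eq_one_of_central (D : Dat p M B P e F) {l : P →* ℂˣ} (hl : l ∈ Lam F)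
    {χ : IrrCharacter G} (hχ : χ ∈ B)
    (h : star p M ⟨P, e⟩ (ext0 P l) (χ : G → ℂ) = (χ : G → ℂ)) {u : G} (hu : u ∈ P)
    (huc : u ∈ Subgroup.centralizer (P : Set G)) : l ⟨u, hu⟩ = 1 := by
  have hQP : Subgroup.zpowers u ≤ P := by rwa [Subgroup.zpowers_le]
  have hMp : M.IsPrime := isPrime_of_isPModular D.hM
  obtain ⟨f, hf, -⟩ := H644.existsUnique_subpairLE D.hM D.hmax.1.1 hQP
  exact D.eq_one_of_star_eq hl h hu hf (exists_blockPart_ne_zero_of_major D.hM D.hmax hχ huc hf)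

/-- The index of the focal subgroup divides the number of characters of height zero. -/
theorem Dat.index_dvd (D : Dat p M B P e F) :
    (F.focalSubgroup.subgroupOf P).index ∣ Nat.card (Ht p B 0) := by
  let _ := D.mulAction 0
  have hfin : Finite (IrrCharacter G) := Characters.Core.finite_irr
  have h1 := index_dvd_card (A := Lam F) (X := Ht p B 0) ⊥ fun χ l hl => by
    rw [Subgroup.mem_bot]
    have h2 : l • χ = χ := hl
    have h3 : star p M ⟨P, e⟩ (ext0 P (l : P →* ℂˣ)) ((χ : IrrCharacter G) : G → ℂ) =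
        ((χ : IrrCharacter G) : G → ℂ) := by
      rw [← D.smul_coe 0 l χ]
      exact congrArg (fun ψ : Ht p B 0 => ((ψ : IrrCharacter G) : G → ℂ)) h2
    exact Subtype.ext (D.free l.2 χ.2.1 χ.2.2 h3)
  rw [Subgroup.index_bot, card_ann fun x y => focal_conj_mem x y] at h1
  exact h1

/-- The index of `Z(P) ∩ foc(F)` in `Z(P)` divides the number of characters of height `h`. -/
theorem Dat.index_center_dvd (D : Dat p M B P e F) (h : ℕ) :
    ((P ⊓ Subgroup.centralizer (P : Set G) ⊓ F.focalSubgroup).subgroupOf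
      (P ⊓ Subgroup.centralizer (P : Set G))).index ∣ Nat.card (Ht p B h) := by
  let _ := D.mulAction h
  have hfin : Finite (IrrCharacter G) := Characters.Core.finite_irr
  set N := F.focalSubgroup.subgroupOf P with hN
  set Z := (P ⊓ Subgroup.centralizer (P : Set G)).subgroupOf P with hZ
  have hNn : N.Normal := normal_of_commutator fun x y => focal_conj_mem x y
  have h1 := index_dvd_card (A := Lam F) (X := Ht p B h) ((ann (N ⊔ Z)).subgroupOf (Lam F))
    fun χ l hl => by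
    rw [Subgroup.mem_subgroupOf]
    have h2 : l • χ = χ := hl
    have h3 : star p M ⟨P, e⟩ (ext0 P (l : P →* ℂˣ)) ((χ : IrrCharacter G) : G → ℂ) =
        ((χ : IrrCharacter G) : G → ℂ) := by
      rw [← D.smul_coe h l χ]
      exact congrArg (fun ψ : Ht p B h => ((ψ : IrrCharacter G) : G → ℂ)) h2
    have h4 : N ⊔ Z ≤ (l : P →* ℂˣ).ker := by
      refine sup_le (fun x hx => ?_) (fun x hx => ?_)
      · exact l.2 x hx
      · exact D.eq_one_of_central l.2 χ.2.1 h3 x.2 (Subgroup.mem_subgroupOf.1 hx).2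
    exact fun x hx => h4 hx
  have h2 : ((ann (N ⊔ Z)).subgroupOf (Lam F)).index =
      ((P ⊓ Subgroup.centralizer (P : Set G) ⊓ F.focalSubgroup).subgroupOf
        (P ⊓ Subgroup.centralizer (P : Set G))).index := by
    change (ann (N ⊔ Z)).relIndex (ann N) = Subgroup.relIndex _ _
    rw [relIndex_ann le_sup_left fun x y => focal_conj_mem x y, Subgroup.relIndex_sup_left,
      Subgroup.relIndex_subgroupOf inf_le_left,
      inf_comm (P ⊓ Subgroup.centralizer (P : Set G)) F.focalSubgroup,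
      Subgroup.inf_relIndex_right]
  rw [h2] at h1
  exact h1

end Fin

end Cfsg.Agent.H650
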