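import Mathlib
import Cfsg.Agent.H636.Gow.Par
import Cfsg.Agent.H687.Theta
import Cfsg.Agent.OddOrderCharacters.FeitCoherence
import Cfsg.Agent.H949.GoodPslE

/-!
# S4913: rational-valued characters induced from linear characters of order three (helper650)

* `inner_ge` : lower bound of `⟨f^G, f'^G⟩` by a number of double cosets;
* `ratOdd_of_lin` : `f` a linear character of order three of a subgroup of odd index with `⟨f^G, f^G⟩ ≤ 2` and
  `⟨f^G, (f⁻¹)^G⟩ ≥ ⟨f^G, f^G⟩`;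
* `SP z`, `scl` : the elements acting by scalars on a one-parameter group;
* `ratOdd_of_z` : the theorem for one-parameter groups.
-/

set_option autoImplicit false

namespace Cfsg.Agent.H650.GowLin

open Cfsg Cfsg.Agent.Characters Cfsg.Agent.Characters.Core Cfsg.Agent.OddOrderCharacters.Clifford Cfsg.Agent.H687 Cfsg.Agent.H636.Gow
  Cfsg.Agent.H707.Orbits
open scoped ComplexConjugate

attribute [local instance] irrAction

universe u v

section dc

variable {G : Type u} [Group G]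

/-- `f` and the conjugate of `f'` by `x` agree on `T ∩ x T x⁻¹`. -/
def Agree2 (T : Subgroup G) (f f' : T →* ℂˣ) (x : G) : Prop :=
  ∀ (t : T) (hx : x⁻¹ * t * x ∈ T), f t = f' ⟨x⁻¹ * t * x, hx⟩

theorem twist_agree2 [Finite G] (T : Subgroup G) [Fintype T] (f f' : T →* ℂˣ) {x : G} (h : Agree2 T f f' x) :
    twist T (fun t => (f t : ℂ)) (fun t => (f' t : ℂ)) x = (Nat.card (dsub T x) : ℂ) := by
  classical
  rw [twist_def, sum_eq_sum_subgroup (dsub T x)]
  · have h1 : ∀ d : dsub T x, (f (d : T) : ℂ) * conj (extendByZero T (fun t => (f' t : ℂ))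
        (x⁻¹ * ((d : T) : G) * x)) = 1 := by
      intro d
      rw [ext_apply_mem T _ _ ((mem_dsub T x d).1 d.2), ← h (d : T) ((mem_dsub T x d).1 d.2)]
      exact CharactersDeep.MackeyLinear.mul_conj_hom f _
    rw [Finset.sum_congr rfl fun d _ => h1 d, Finset.sum_const, Finset.card_univ, ← Nat.card_eq_fintype_card]
    simp
  · intro t ht
    rw [mem_dsub] at ht
    rw [ext_apply_not_mem T _ _ ht, map_zero, mul_zero]

theorem Agree2.mul_mem {T : Subgroup G} {f f' : T →* ℂˣ} {x : G} (hx : Agree2 T f f' x) {a b : G}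
    (ha : a ∈ T) (hb : b ∈ T) : Agree2 T f f' (a * x * b) := by
  intro t ht
  have e1 : x⁻¹ * (a⁻¹ * t * a) * x ∈ T := by
    have e2 : x⁻¹ * (a⁻¹ * t * a) * x = b * ((a * x * b)⁻¹ * t * (a * x * b)) * b⁻¹ := by group
    rw [e2]
    exact T.mul_mem (T.mul_mem hb ht) (T.inv_mem hb)
  have e3 := hx (⟨a, ha⟩⁻¹ * t * ⟨a, ha⟩) e1
  have e4 : (⟨(a * x * b)⁻¹ * t * (a * x * b), ht⟩ : T) =
      (⟨b, hb⟩ : T)⁻¹ * ⟨x⁻¹ * (a⁻¹ * t * a) * x, e1⟩ * ⟨b, hb⟩ := Subtype.ext (by
    show (a * x * b)⁻¹ * t * (a * x * b) = b⁻¹ * (x⁻¹ * (a⁻¹ * t * a) * x) * b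
    group)
  have e5 : (⟨x⁻¹ * (((⟨a, ha⟩ : T)⁻¹ * t * ⟨a, ha⟩ : T) : G) * x, e1⟩ : T) =
    ⟨x⁻¹ * (a⁻¹ * t * a) * x, e1⟩ := rfl
  rw [e4, map_mul, map_mul, map_inv, mul_comm, mul_inv_cancel_left, ← e5, ← e3, map_mul, map_mul, map_inv,
    mul_comm, mul_inv_cancel_left]

/-- Lower bound of the inner product. -/
theorem inner_ge [Fintype G] (T : Subgroup G) (f f' : T →* ℂˣ) {ι : Type*} [Fintype ι] (x : ι → G)
    (hx : ∀ i, Agree2 T f f' (x i)) (hd : ∀ i j, i ≠ j → ¬ ∃ a ∈ T, ∃ b ∈ T, x j = a * x i * b) {n : ℕ}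
    (hn : classInner (indFun T fun t => (f t : ℂ)) (indFun T fun t => (f' t : ℂ)) = n) : Fintype.card ι ≤ n := by
  classical
  have : Fintype T := Fintype.ofFinite T
  let _ := dcAct T
  have hT : (Nat.card T : ℂ) ≠ 0 := by exact_mod_cast Nat.card_pos.ne'
  have hnat : ∀ y : G, ∃ k : ℕ, twist T (fun t => (f t : ℂ)) (fun t => (f' t : ℂ)) y = k := fun y =>
    twist_eq_nat T (Cfsg.Agent.Characters.Linear.isCharacter_hom f) (Cfsg.Agent.Characters.Linear.isCharacter_hom f') y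
  choose k hk using hnat
  have h2 : n * Nat.card T ^ 2 = ∑ y : G, k y := by
    have h1 : classInner (indFun T fun t => (f t : ℂ)) (indFun T fun t => (f' t : ℂ)) * (Nat.card T : ℂ) ^ 2 =
        ((∑ y : G, k y : ℕ) : ℂ) := by
      rw [classInner_indFun_indFun]
      push_cast
      rw [Finset.sum_congr rfl fun y _ => (hk y).symm]
      field_simp
    rw [hn] at h1
    exact_mod_cast h1
  have hagree : ∀ i y, y ∈ MulAction.orbit (T × T) (x i) → k y = Nat.card (dsub T y) := by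
    intro i y hy
    obtain ⟨a, ha, b, hb, rfl⟩ := (mem_dc_iff T _ _).1 hy
    have h3 := twist_agree2 T f f' ((hx i).mul_mem ha hb)
    rw [hk] at h3
    exact_mod_cast h3
  have h3 : Fintype.card ι * Nat.card T ^ 2 ≤ n * Nat.card T ^ 2 := by
    calc Fintype.card ι * Nat.card T ^ 2 = ∑ i : ι, Nat.card T ^ 2 := by
          rw [Finset.sum_const, Finset.card_univ, smul_eq_mul]
      _ = ∑ i : ι, ∑ y : G, (if y ∈ MulAction.orbit (T × T) (x i) then Nat.card (dsub T y) else 0) :=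
          Finset.sum_congr rfl fun i _ => (sum_dc T (x i)).symm
      _ = ∑ y : G, ∑ i : ι, (if y ∈ MulAction.orbit (T × T) (x i) then Nat.card (dsub T y) else 0) :=
          Finset.sum_comm
      _ ≤ ∑ y : G, k y := by
          refine Finset.sum_le_sum fun y _ => ?_
          by_cases hy : ∃ i, y ∈ MulAction.orbit (T × T) (x i)
          · obtain ⟨i, hi⟩ := hy
            rw [Finset.sum_eq_single i, if_pos hi, hagree i y hi]
            · intro j _ hj
              rw [if_neg]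
              intro hj2
              apply hd i j (Ne.symm hj)
              rw [← mem_dc_iff]
              rw [← MulAction.orbit_eq_iff] at hi hj2 ⊢
              rw [← hj2, hi]
            · exact fun h => absurd (Finset.mem_univ _) h
          · rw [Finset.sum_eq_zero]
            · exact Nat.zero_le _
            · intro i _
              rw [if_neg fun h => hy ⟨i, h⟩]
      _ = n * Nat.card T ^ 2 := h2.symm
  exact Nat.le_of_mul_le_mul_right h3 (pow_pos Nat.card_pos _)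

end dc

section main

variable {G : Type u} [Group G]

/-- The cube roots of unity. -/
theorem cube {w x : ℂ} (hw : w ^ 3 = 1) (hw1 : w ≠ 1) (hx : x ^ 3 = 1) : x = 1 ∨ x = w ∨ x = w ^ 2 := by
  have h1 : w ^ 2 + w + 1 = 0 := by
    have h : (w - 1) * (w ^ 2 + w + 1) = 0 := by linear_combination hw
    exact (mul_eq_zero.1 h).resolve_left (sub_ne_zero.2 hw1)
  have h2 : (x - 1) * ((x - w) * (x - w ^ 2)) = 0 := by
    linear_combination hx - hw + (-(x ^ 2) + x) * h1 + x * hw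
  rcases mul_eq_zero.1 h2 with h | h
  · exact Or.inl (sub_eq_zero.1 h)
  · rcases mul_eq_zero.1 h with h | h
    · exact Or.inr (Or.inl (sub_eq_zero.1 h))
    · exact Or.inr (Or.inr (sub_eq_zero.1 h))

/-- Field automorphisms of `ℂ` on a linear character of order three. -/
theorem galois_cube {T : Type*} [Group T] (f : T →* ℂˣ) (hf3 : ∀ t, f t ^ 3 = 1) (hf1 : f ≠ 1) (σ : ℂ ≃+* ℂ) :
    (∀ t, σ (f t : ℂ) = (f t : ℂ)) ∨ ∀ t, σ (f t : ℂ) = ((f⁻¹ : T →* ℂˣ) t : ℂ) := by
  obtain ⟨t₀, ht₀⟩ : ∃ t₀, f t₀ ≠ 1 := by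
    by_contra h
    push Not at h
    exact hf1 (MonoidHom.ext h)
  have hc : ∀ t, (f t : ℂ) ^ 3 = 1 := fun t => by rw [← Units.val_pow_eq_pow_val, hf3, Units.val_one]
  have hw1 : (f t₀ : ℂ) ≠ 1 := fun h => ht₀ (Units.ext h)
  have hinv : ∀ t, ((f⁻¹ : T →* ℂˣ) t : ℂ) = (f t : ℂ) ^ 2 := by
    intro t
    rw [MonoidHom.inv_apply, Units.val_inv_eq_inv_val]
    rw [inv_eq_iff_eq_inv]
    refine eq_inv_of_mul_eq_one_left ?_
    rw [← pow_succ', hc]
  have h4 : ∀ t, (f t : ℂ) ^ 4 = (f t : ℂ) := fun t => by rw [pow_succ, hc, one_mul]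
  rcases cube (hc t₀) hw1 (x := σ (f t₀ : ℂ)) (by rw [← map_pow, hc, map_one]) with h | h | h
  · exfalso
    apply hw1
    apply σ.injective
    rw [h, map_one]
  · left
    intro t
    rcases cube (hc t₀) hw1 (hc t) with h2 | h2 | h2
    · rw [h2, map_one]
    · rw [h2, h]
    · rw [h2, map_pow, h]
  · right
    intro t
    rw [hinv]
    rcases cube (hc t₀) hw1 (hc t) with h2 | h2 | h2
    · rw [h2, map_one, one_pow]
    · rw [h2, h]
    · rw [h2, map_pow, h]

theorem map_indFun [Fintype G] (T : Subgroup G) (f : T → ℂ) (σ : ℂ ≃+* ℂ) (g : G) :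
    σ (indFun T f g) = indFun T (fun t => σ (f t)) g := by
  classical
  rw [Characters.Core.indFun_apply, Characters.Core.indFun_apply, map_mul, map_inv₀, map_natCast, map_sum]
  congr 1
  refine Finset.sum_congr rfl fun x _ => ?_
  by_cases h : x⁻¹ * g * x ∈ T
  · rw [ext_apply_mem T _ _ h, ext_apply_mem T _ _ h]
  · rw [ext_apply_not_mem T _ _ h, ext_apply_not_mem T _ _ h, map_zero]

/-- A linear character of order three of a subgroup of odd index. -/
theorem ratOdd_of_lin [Finite G] (T : Subgroup G) (hodd : Odd T.index) (f : T →* ℂˣ) (hf3 : ∀ t, f t ^ 3 = 1)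
    (hf1 : f ≠ 1) {ι : Type*} [Fintype ι] (hι : Fintype.card ι ≤ 2) (x : ι → G)
    (hx : ∀ y, Agree T f y → ∃ i, ∃ a ∈ T, ∃ b ∈ T, y = a * x i * b) (y : ι → G)
    (hy : ∀ i, Agree2 T f f⁻¹ (y i)) (hd : ∀ i j, i ≠ j → ¬ ∃ a ∈ T, ∃ b ∈ T, y j = a * y i * b) : RatOdd G := by
  classical
  have : Fintype G := Fintype.ofFinite G
  have : Fintype T := Fintype.ofFinite T
  have hc : IsCharacter G (indFun T fun t => (f t : ℂ)) := S0148.result T _ (Characters.Linear.isCharacter_hom f)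
  have hc' : IsCharacter G (indFun T fun t => ((f⁻¹ : T →* ℂˣ) t : ℂ)) :=
    S0148.result T _ (Characters.Linear.isCharacter_hom f⁻¹)
  obtain ⟨n, hn⟩ := classInner_isNat hc hc
  obtain ⟨n', hn'⟩ := classInner_isNat hc' hc'
  obtain ⟨m, hm⟩ := classInner_isNat hc hc'
  have h1 : n ≤ Fintype.card ι := norm_le T f x hx hn
  have h2 : n' ≤ Fintype.card ι := by
    refine norm_le T f⁻¹ x (fun y h => hx y fun t ht => ?_) hn'
    have h3 := h t ht
    rw [MonoidHom.inv_apply, MonoidHom.inv_apply] at h3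
    exact inv_injective h3
  have h3 : Fintype.card ι ≤ m := inner_ge T f f⁻¹ y hy hd hm
  have heq : (indFun T fun t => (f t : ℂ)) = indFun T fun t => ((f⁻¹ : T →* ℂˣ) t : ℂ) := by
    rw [← sub_eq_zero]
    apply classInner_self_eq_zero
    have hm' : classInner (indFun T fun t => ((f⁻¹ : T →* ℂˣ) t : ℂ)) (indFun T fun t => (f t : ℂ)) = m := by
      rw [← classInner_conj_symm, hm, Complex.conj_natCast]
    have e : classInner ((indFun T fun t => (f t : ℂ)) - indFun T fun t => ((f⁻¹ : T →* ℂˣ) t : ℂ))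
        ((indFun T fun t => (f t : ℂ)) - indFun T fun t => ((f⁻¹ : T →* ℂˣ) t : ℂ)) = ((n + n' - 2 * m : ℤ) : ℂ) := by
      rw [classInner_sub_left, classInner_sub_right, classInner_sub_right, hn, hn', hm, hm']
      push_cast
      ring
    have h0 := OddOrderCharacters.FeitCoherence.classInner_self_int_nonneg e
    rw [e]
    have : (n + n' - 2 * m : ℤ) = 0 := by omega
    rw [this, Int.cast_zero]
  have hrat : ∀ g : G, ∃ q : ℚ, (indFun T fun t => (f t : ℂ)) g = q := by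
    intro g
    apply GaloisBasic.exists_rat_of_forall_ringEquiv
    · exact (GaloisBasic.isIntegral_apply hc g).tower_top
    · intro σ
      rw [map_indFun]
      rcases galois_cube f hf3 hf1 σ with h | h
      · simp only [h]
      · simp only [h]
        exact (congrFun heq g).symm
  have h10 : classInner (indFun T fun t => (f t : ℂ)) 1 = 0 := by
    rw [classInner_indFun T _ _ (isIrr_isClassFunction isIrr_one)]
    refine classInner_irr_ne (Characters.Linear.isIrrCharacter_hom f) (isIrr_one (G := T)) fun h => hf1 ?_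
    refine MonoidHom.ext fun t => Units.ext ?_
    exact congrFun h t
  exact ratOdd_of_norm_le_two ⟨_, 0, hc, isCharacter_zero, by rw [sub_zero]⟩ hrat h10
    ⟨T.index, by exact_mod_cast hodd, by rw [indFun_one, map_one]; simp⟩ hn (h1.trans hι)

end main

section z

variable {S : Type u} [Group S] {F : Type v} [Field F] {z : F → S}

theorem Sc.mul {g h : S} {c d : F} (hg : Sc z g c) (hh : Sc z h d) : Sc z (g * h) (c * d) := by
  intro a
  have e : g * h * z a * (g * h)⁻¹ = g * (h * z a * h⁻¹) * g⁻¹ := by group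
  rw [e, hh, hg, mul_assoc]

theorem Sc.one : Sc z (1 : S) (1 : F) := by
  intro a
  rw [one_mul, inv_one, mul_one, one_mul]

theorem Sc.inv {g : S} {c : Fˣ} (hg : Sc z g (c : F)) : Sc z g⁻¹ ((c⁻¹ : Fˣ) : F) := by
  intro a
  have e := hg (((c⁻¹ : Fˣ) : F) * a)
  rw [← mul_assoc, ← Units.val_mul, mul_inv_cancel, Units.val_one, one_mul] at e
  rw [← e]
  group

/-- The elements acting by scalars. -/
def SP (z : F → S) : Subgroup S where
  carrier := {g | ∃ c : Fˣ, Sc z g (c : F)}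
  mul_mem' := by
    rintro g h ⟨c, hc⟩ ⟨d, hd⟩
    exact ⟨c * d, by rw [Units.val_mul]; exact Sc.mul hc hd⟩
  one_mem' := ⟨1, by rw [Units.val_one]; exact Sc.one⟩
  inv_mem' := by
    rintro g ⟨c, hc⟩
    exact ⟨c⁻¹, Sc.inv hc⟩

theorem mem_SP {g : S} : g ∈ SP z ↔ ∃ c : Fˣ, Sc z g (c : F) := Iff.rfl

theorem Sc.unique (z_inj : Function.Injective z) {g : S} {c d : Fˣ} (hc : Sc z g (c : F)) (hd : Sc z g (d : F)) :
    c = d := by
  have h := (hc 1).symm.trans (hd 1)
  rw [mul_one, mul_one] at h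
  exact Units.ext (z_inj h)

/-- The scalar. -/
noncomputable def scl (z_inj : Function.Injective z) : SP z →* Fˣ where
  toFun g := g.2.choose
  map_one' := Sc.unique z_inj (1 : SP z).2.choose_spec (by rw [Units.val_one]; exact Sc.one)
  map_mul' g h := Sc.unique z_inj (g * h).2.choose_spec (by
    rw [Units.val_mul]; exact Sc.mul g.2.choose_spec h.2.choose_spec)

theorem scl_spec (z_inj : Function.Injective z) (g : SP z) : Sc z (g : S) ((scl z_inj g : Fˣ) : F) := g.2.choose_spec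

theorem scl_eq (z_inj : Function.Injective z) {g : SP z} {c : Fˣ} (h : Sc z (g : S) (c : F)) : scl z_inj g = c :=
  Sc.unique z_inj (scl_spec z_inj g) h

/-- A character of order three. -/
theorem exists_lam [Finite F] (h3 : 3 ∣ Nat.card Fˣ) :
    ∃ lam : Fˣ →* ℂˣ, (∀ u, lam u ^ 3 = 1) ∧ ∃ u, lam u ≠ 1 := by
  obtain ⟨χ, hχ⟩ := H949.GoodPsl.exists_faithful (F := F)
  obtain ⟨k, hk⟩ := h3
  refine ⟨χ ^ k, fun u => ?_, ?_⟩
  · rw [MonoidHom.pow_apply, ← pow_mul, mul_comm, ← hk, ← map_pow, pow_card_eq_one', map_one]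
  · obtain ⟨g, hg⟩ := IsCyclic.exists_generator (α := Fˣ)
    have hog : orderOf g = Nat.card Fˣ := orderOf_eq_card_of_forall_mem_zpowers hg
    refine ⟨g, fun h => ?_⟩
    rw [MonoidHom.pow_apply, ← map_pow, ← map_one χ] at h
    have h2 := orderOf_dvd_of_pow_eq_one (hχ h)
    rw [hog, hk] at h2
    have hk0 : 0 < k := by
      rcases Nat.eq_zero_or_pos k with h0 | h0
      · rw [h0, mul_zero] at hk
        exact absurd hk Nat.card_pos.ne'
      · exact h0
    have := Nat.le_of_dvd hk0 h2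
    omega

theorem lam_zpow {lam : Fˣ →* ℂˣ} (hl3 : ∀ u, lam u ^ 3 = 1) {u : Fˣ} (hu : lam u ≠ 1) {i j : ℤ}
    (h : lam (u ^ i) = lam (u ^ j)) : (3 : ℤ) ∣ i - j := by
  rw [map_zpow, map_zpow] at h
  have h1 : lam u ^ (i - j) = 1 := by rw [zpow_sub, h, mul_inv_cancel]
  have h2 : orderOf (lam u) = 3 := orderOf_eq_prime (hl3 u) hu
  have h3 := orderOf_dvd_iff_zpow_eq_one.2 h1
  rwa [h2] at h3

/-- **The theorem for one-parameter groups**: `P` acts by scalars on `{z a}`, `3 ∣ q - 1`. -/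
theorem ratOdd_of_z [Finite S] (z_inj : Function.Injective z) {lam : Fˣ →* ℂˣ} (hl3 : ∀ u, lam u ^ 3 = 1)
    (hl : ∃ u, lam u ≠ 1) (hodd : Odd (SP z).index) (h0 : ∃ i : ℤ, Wit z 1 i i ∧ ¬ (3 : ℤ) ∣ i)
    (N : Set S) (hN : ∀ y : S, ∃ a b : S, a ∈ SP z ∧ b ∈ SP z ∧ a * y * b ∈ N)
    (h1 : ∀ n ∈ N, n ∈ SP z ∨ ∃ i j : ℤ, Wit z n i j ∧ ¬ (3 : ℤ) ∣ i - j)
    (x₀ : S) (hx₀ : ∀ (t : S) (c c' : Fˣ), Sc z t (c : F) → Sc z (x₀⁻¹ * t * x₀) (c' : F) → lam (c * c') = 1) :
    RatOdd S := by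
  obtain ⟨u, hu⟩ := hl
  refine ratOdd_of_lin (SP z) hodd (lam.comp (scl z_inj)) (fun t => hl3 _) ?_ (ι := Unit) (by simp)
    (fun _ => 1) ?_ (fun _ => x₀) ?_ ?_
  · intro hcon
    obtain ⟨i, hw, hi⟩ := h0
    obtain ⟨t, ht, -⟩ := hw u
    have h2 : lam (u ^ i) = 1 := by
      rw [← scl_eq z_inj (g := ⟨t, u ^ i, ht⟩) ht]
      exact congrArg (fun f : SP z →* ℂˣ => f ⟨t, u ^ i, ht⟩) hcon
    apply hi
    have h3 := lam_zpow hl3 hu (i := i) (j := 0) (by rw [h2, zpow_zero, map_one])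
    rwa [sub_zero] at h3
  · intro y hy
    obtain ⟨a, b, ha, hb, hn⟩ := hN y
    refine ⟨(), ?_⟩
    rcases h1 _ hn with h | ⟨i, j, hw, hij⟩
    · refine ⟨a⁻¹ * (a * y * b) * b⁻¹, mul_mem (mul_mem (inv_mem ha) h) (inv_mem hb), 1, one_mem _, ?_⟩
      group
    · exfalso
      apply hij
      have hy' := hy.mul_mem ha hb
      obtain ⟨t, ht, ht'⟩ := hw u
      apply lam_zpow hl3 hu
      have h4 := hy' ⟨t, u ^ i, ht⟩ ⟨u ^ j, ht'⟩
      rw [MonoidHom.comp_apply, MonoidHom.comp_apply, scl_eq z_inj (g := ⟨t, u ^ i, ht⟩) ht,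
        scl_eq z_inj (g := ⟨(a * y * b)⁻¹ * t * (a * y * b), u ^ j, ht'⟩) ht'] at h4
      exact h4
  · rintro ⟨⟩ t ht
    have h2 := hx₀ t _ _ (scl_spec z_inj t) (scl_spec z_inj ⟨x₀⁻¹ * t * x₀, ht⟩)
    rw [map_mul] at h2
    rw [MonoidHom.inv_apply, MonoidHom.comp_apply, MonoidHom.comp_apply]
    exact eq_inv_of_mul_eq_one_left h2
  · intro i j hij
    exact absurd (Subsingleton.elim i j) hij

end z

end Cfsg.Agent.H650.GowLin
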