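import Cfsg.Agent.H650.GowLin
import Cfsg.Agent.H967.ThRgd
import Cfsg.Agent.H53.HC.RgdLevi

/-!
# S4913: linear characters of order three of the normaliser of a long root group (helper650)
-/

set_option autoImplicit false
set_option linter.unusedSectionVars false

namespace Cfsg.Agent.H650.GowRgd

open CoxeterSystem Cfsg.Agent.ChevalleyStructure.CoxeterGeom Cfsg.Agent.Tits.Roots Cfsg.Agent.Tits.Core
  Cfsg.Agent.Tits.Exchange Cfsg.Agent.Nodes.Reps Cfsg.Agent.Nodes.BNOf Cfsg.Agent.Nodes.StabComb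
  Cfsg.Agent.Nodes.Bruhat Cfsg.Agent.Nodes.OppDec Cfsg.Agent.Nodes.LeviDec Cfsg.Agent.Nodes.NormX
  Cfsg.Agent.H687 Cfsg.Agent.H636.Gow Cfsg.Agent.H650.GowLin Cfsg.Agent.H53.HC

variable {I W Y : Type*} [Fintype I] [DecidableEq I] [Group W] [Finite W] [Group Y] {M : CoxeterMatrix I}
  {cs : CoxeterSystem M W} {A : I → I → ℤ} {h : IsCartan M A} {T : Subgroup Y} {n : I → Y}
  {X : (I → ℤ) → Subgroup Y}

theorem sc_comm {F : Type*} [Field F] {z : F → Y} {g : Y} (h : ∀ a, g * z a = z a * g) : Sc z g (1 : F) := by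
  intro a
  rw [h, mul_inv_cancel_right, one_mul]

theorem sc_comm_iff {F : Type*} [Field F] {z : F → Y} {g : Y} : Sc z g (1 : F) ↔ ∀ a, g * z a = z a * g := by
  refine ⟨fun h a => ?_, sc_comm⟩
  have := h a
  rwa [one_mul, mul_inv_eq_iff_eq_mul] at this

theorem fix_of_WJ {r : I → ℤ} {w : W} (hw : w ∈ WJ cs (orth cs h r)) : rep cs h w r = r := by
  unfold WJ at hw
  induction hw using Subgroup.closure_induction with
  | mem v hv =>
    obtain ⟨i, hi, rfl⟩ := hv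
    exact hi
  | one => rw [map_one, Module.End.one_apply]
  | mul v w _ _ ih1 ih2 => rw [rep_mul_apply, ih2, ih1]
  | inv v _ ih =>
    conv_lhs => rw [← ih]
    exact rep_inv_apply cs h v r

/-- `p = 2`, `3 ∣ q - 1`. -/
theorem ratOdd_rgd [Finite Y] (R : RGD cs h 2 T n X) (hG : GG cs h T X = ⊤) {r : I → ℤ} (L : Long R r (X r))
    {F : Type*} [Field F] [Finite F] {z : F → Y} (z_inj : Function.Injective z) (hz : ∀ y, y ∈ X r ↔ ∃ a, z a = y)
    {lam : Fˣ →* ℂˣ} (hl3 : ∀ u, lam u ^ 3 = 1) (hl : ∃ u, lam u ≠ 1)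
    (hB : RGD.B cs h T X ≤ SP z)
    (hfix : ∀ w k, Rp cs R.nsys w k → rep cs h w r = r → k ∈ SP z)
    (h0 : ∃ i : ℤ, Wit z 1 i i ∧ ¬ (3 : ℤ) ∣ i)
    (h1 : ∀ w k, Rp cs R.nsys w k → rep cs h w r ≠ r → ∃ i j : ℤ, Wit z k i j ∧ ¬ (3 : ℤ) ∣ i - j)
    (hopp : ∀ w k, Rp cs R.nsys w k → rep cs h w r = -r → ∀ t ∈ T, ∀ c c' : Fˣ, Sc z t (c : F) →
      Sc z (k⁻¹ * t * k) (c' : F) → lam (c * c') = 1)
    (hcen : ∀ i ∈ orth cs h r, ∀ x ∈ X (sr i), ∀ a, x * z a = z a * x) : RatOdd Y := by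
  classical
  have : Fact (Nat.Prime 2) := ⟨Nat.prime_two⟩
  obtain ⟨w₀, hw₀⟩ := Cfsg.Agent.H967.ThRgd.exists_neg (cs := cs) (h := h) L.root
  obtain ⟨x₀, hx₀⟩ := exists_rp cs R.nsys w₀
  -- the root groups of `J` centralise `z`
  have hMJ : ∀ m ∈ MJ cs h X (orth cs h r), ∀ a, m * z a = z a * m := by
    have h2 : MJ cs h X (orth cs h r) ≤ Subgroup.centralizer (Set.range z) := by
      refine RGD.Sup_le fun x hx => ?_
      obtain ⟨w, hw, j, hj, rfl⟩ := exists_of_mem_RootsJ hx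
      obtain ⟨k, hk⟩ := exists_rp cs R.nsys w
      have hwr : rep cs h w r = r := fix_of_WJ hw
      intro u hu
      rw [Subgroup.mem_centralizer_iff]
      rintro _ ⟨a, rfl⟩
      have h3 : k⁻¹ * u * k ∈ X (sr j) := by
        have := R.conj_mem' hk ((isRoot_sr cs h j).act w) hu
        rwa [rep_inv_apply] at this
      have h4 : k⁻¹ * z a * k ∈ X r := by
        have h5 := hk.inv
        have h6 := R.conj_mem h5 L.root ((hz _).2 ⟨a, rfl⟩)
        rw [inv_inv] at h6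
        have h7 : rep cs h w⁻¹ r = r := by
          conv_lhs => rw [← hwr]
          exact rep_inv_apply cs h w r
        rwa [h7] at h6
      obtain ⟨b, hb⟩ := (hz _).1 h4
      have h5 := hcen j hj _ h3 b
      rw [hb] at h5
      have e1 : k⁻¹ * u * k * (k⁻¹ * z a * k) = k⁻¹ * (u * z a) * k := by group
      have e2 : k⁻¹ * z a * k * (k⁻¹ * u * k) = k⁻¹ * (z a * u) * k := by group
      rw [e1, e2, mul_left_inj, mul_right_inj] at h5
      exact h5.symm
    intro m hm a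
    exact ((Subgroup.mem_centralizer_iff.1 (h2 hm)) (z a) ⟨a, rfl⟩).symm
  refine ratOdd_of_z z_inj hl3 hl ?_ h0 {k | ∃ w, Rp cs R.nsys w k} ?_ ?_ x₀ ?_
  · -- odd index
    obtain ⟨S, hS⟩ := Cfsg.Agent.KFacts.RgdAutFacts.exists_sylow R hG
    have h2 : (S : Subgroup Y) ≤ SP z := by
      rw [hS]
      exact le_trans (le_sup_right (a := T)) hB
    rw [← Nat.not_even_iff_odd, even_iff_two_dvd]
    intro h3
    exact S.not_dvd_index (h3.trans (Subgroup.index_dvd_of_le h2))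
  · intro y
    obtain ⟨w, b₁, hb₁, k, hk, b₂, hb₂, e⟩ := (mem_GG R).1 (show y ∈ GG cs h T X by rw [hG]; exact Subgroup.mem_top _)
    refine ⟨b₁⁻¹, b₂⁻¹, hB (inv_mem hb₁), hB (inv_mem hb₂), w, ?_⟩
    have : b₁⁻¹ * y * b₂⁻¹ = k := by rw [e]; group
    rwa [this]
  · rintro k ⟨w, hk⟩
    by_cases e1 : rep cs h w r = r
    · exact Or.inl (hfix w k hk e1)
    · exact Or.inr (h1 w k hk e1)
  · intro t c c' hc hc'
    -- `t` normalises both root groups
    have hn : ∀ {g : Y} {c : Fˣ}, Sc z g (c : F) → g ∈ Subgroup.normalizer (X r : Set Y) := by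
      intro g c hg
      rw [Subgroup.mem_normalizer_iff]
      intro x
      constructor
      · intro hx
        obtain ⟨a, rfl⟩ := (hz x).1 hx
        exact (hz _).2 ⟨_, (hg a).symm⟩
      · intro hx
        obtain ⟨a, ha⟩ := (hz _).1 hx
        have h3 := Sc.inv hg a
        rw [ha] at h3
        have h4 : g⁻¹ * (g * x * g⁻¹) * g⁻¹⁻¹ = x := by group
        rw [h4] at h3
        exact (hz _).2 ⟨_, h3.symm⟩
    have h2 : t ∈ LJ cs h T X (orth cs h r) := by
      rw [← L.normalizer_inf_opp hx₀ hw₀]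
      refine ⟨⟨hn hc, ?_⟩, by rw [hG]; exact Subgroup.mem_top _⟩
      show t ∈ Subgroup.normalizer ((cj x₀ (X r) : Subgroup Y) : Set Y)
      rw [normalizer_cj, mem_cj]
      exact hn hc'
    obtain ⟨τ, hτ, m, hm, rfl⟩ := (mem_LJ_iff_mul R _).1 h2
    have hm' : x₀⁻¹ * m * x₀ ∈ MJ cs h X (orth cs h r) := by
      have := Fintype.ofFinite W
      refine conj_mem_Sup' R hx₀ (fun x hx => hx.1) (fun x hx => ?_) hm
      rw [mem_RootsJ_iff L.dom (hx.1.act w₀⁻¹)]
      have h8 := form_zero_of_RootsJ hx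
      rw [← form_rep cs h w₀⁻¹] at h8
      have hw' : rep cs h w₀⁻¹ r = -r := by
        have h9 : rep cs h w₀⁻¹ (rep cs h w₀ r) = r := rep_inv_apply cs h w₀ r
        rw [hw₀, map_neg] at h9
        exact neg_eq_iff_eq_neg.1 h9
      rw [hw', form_neg_left] at h8
      omega
    have h3 : Sc z τ (c : F) := by
      have h4 := Sc.mul hc (Sc.inv (z := z) (c := (1 : Fˣ)) (g := m) (by
        rw [Units.val_one]; exact sc_comm (hMJ m hm)))
      rwa [mul_inv_cancel_right, inv_one, Units.val_one, mul_one] at h4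
    have h5 : Sc z (x₀⁻¹ * τ * x₀) (c' : F) := by
      have h4 := Sc.mul hc' (Sc.inv (z := z) (c := (1 : Fˣ)) (g := x₀⁻¹ * m * x₀) (by
        rw [Units.val_one]; exact sc_comm (hMJ _ hm')))
      have e : x₀⁻¹ * (τ * m) * x₀ * (x₀⁻¹ * m * x₀)⁻¹ = x₀⁻¹ * τ * x₀ := by group
      rwa [e, inv_one, Units.val_one, mul_one] at h4
    exact hopp w₀ x₀ hx₀ hw₀ τ hτ c c' h3 h5

end Cfsg.Agent.H650.GowRgd
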