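import Mathlib
import Cfsg.Agent.H497.Gow.CombSeven

/-!
# The double cosets of `W(E₆)` (helper650, S4913)

`J` = all nodes of `E₆` but the third (Bourbaki), of type `A₁ × A₄`: at most two minimal representatives of the double
cosets of `W_J` fix the simple root `α₁`. (After helper497's computation for `E₇`.)
-/

set_option autoImplicit false
set_option linter.unusedSectionVars false

namespace Cfsg.Agent.H650.GowSix

open CoxeterSystem Cfsg.Agent.ChevalleyStructure.CoxeterGeom Cfsg.Agent.Tits.Roots Cfsg.Agent.Tits.Core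
  Cfsg.Agent.Tits.Exchange Cfsg.Agent.Nodes.Reps Cfsg.Agent.Nodes.BNOf Cfsg.Agent.Nodes.StabComb
  Cfsg.Agent.H53.HC Cfsg.Agent.H497.Gow

/-- the Coxeter matrix of `E₆` as a function -/
def m6 (i j : Fin 6) : ℕ := CoxeterMatrix.E₆ i j

theorem m6_cases : ∀ i j : Fin 6, i ≠ j → m6 i j = 2 ∨ m6 i j = 3 := by decide +kernel

variable {W : Type*} [Group W] {cs : CoxeterSystem CoxeterMatrix.E₆ W} {A : Fin 6 → Fin 6 → ℤ}
  {h : IsCartan CoxeterMatrix.E₆ A}

theorem entry (h : IsCartan CoxeterMatrix.E₆ A) (i j : Fin 6) :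
    A i j = if i = j then 2 else if m6 i j = 3 then -1 else 0 := by
  by_cases hij : i = j
  · subst hij; rw [if_pos rfl, h.diag]
  · rw [if_neg hij]
    have h0 : CoxeterMatrix.E₆ i j = m6 i j := rfl
    rcases m6_cases i j hij with h1 | h1
    · rw [if_neg (by omega)]
      rcases h.rel i j hij with ⟨-, h2, -⟩ | ⟨h2, -⟩ | ⟨h2, -⟩ | ⟨h2, -⟩
      · exact h2
      all_goals omega
    · rw [if_pos h1]
      rcases h.rel i j hij with ⟨h2, -⟩ | ⟨-, h2, -⟩ | ⟨h2, -⟩ | ⟨h2, -⟩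
      · omega
      · exact h2
      all_goals omega

/-- the entries as a function -/
def e6 (i j : Fin 6) : ℤ := if i = j then 2 else if m6 i j = 3 then -1 else 0

theorem A_eq (h : IsCartan CoxeterMatrix.E₆ A) : A = e6 := by
  funext i j
  exact entry h i j

theorem e6_symm : ∀ i j, e6 i j = e6 j i := by decide +kernel

/-- the rows -/
def row : Fin 6 → Fin 6 → ℤ :=
  ![![2, 0, -1, 0, 0, 0],
    ![0, 2, 0, -1, 0, 0],
    ![-1, 0, 2, -1, 0, 0],
    ![0, -1, -1, 2, -1, 0],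
    ![0, 0, 0, -1, 2, -1],
    ![0, 0, 0, 0, -1, 2]]

theorem e6_eq : ∀ i j, e6 i j = row i j := by decide +kernel

theorem e6_eq' : e6 = row := by funext i j; exact e6_eq i j

/-- `3 ω₃` -/
def om : Fin 6 → ℤ := ![5, 6, 10, 12, 8, 4]

/-- `3 (2 ω₆ - ω₃)` -/
def om' : Fin 6 → ℤ := ![-1, 0, -2, 0, 2, 4]

theorem pairing_om (i : Fin 6) : pairing row i om = if i = 2 then 3 else 0 := by
  revert i; decide +kernel

theorem bf_om (x : Fin 6 → ℤ) : bf row om x = 3 * x 2 := by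
  rw [bf_comm (fun i j => by rw [← e6_eq, ← e6_eq, e6_symm])]
  unfold bf
  simp only [pairing_om, mul_ite, mul_zero, Finset.sum_ite_eq', Finset.mem_univ, if_true]
  ring

theorem pairing_row (x : Fin 6 → ℤ) :
    pairing row 0 x = 2 * x 0 - x 2 ∧ pairing row 1 x = 2 * x 1 - x 3 ∧ pairing row 2 x = 2 * x 2 - x 0 - x 3 ∧
    pairing row 3 x = 2 * x 3 - x 1 - x 2 - x 4 ∧ pairing row 4 x = 2 * x 4 - x 3 - x 5 ∧
    pairing row 5 x = 2 * x 5 - x 4 := by
  simp only [pairing, Fin.sum_univ_six]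
  refine ⟨?_, ?_, ?_, ?_, ?_, ?_⟩ <;> simp [row] <;> ring

/-- the quadratic form is positive -/
theorem sos (a b c d e f : ℤ) :
    6 * (a * (2 * a - c) + b * (2 * b - d) + c * (2 * c - a - d) + d * (2 * d - b - c - e) + e * (2 * e - d - f) +
      f * (2 * f - e)) =
    3 * (2 * a - c) ^ 2 + 3 * (2 * b - d) ^ 2 + 3 * (2 * f - e) ^ 2 + (3 * c - 2 * d) ^ 2 +
      (3 * e - 2 * d) ^ 2 + d ^ 2 := by
  ring

/-- the quadratic form -/
def qf (a b c d e f : ℤ) : ℤ :=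
  a * (2 * a - c) + b * (2 * b - d) + c * (2 * c - a - d) + d * (2 * d - b - c - e) + e * (2 * e - d - f) +
      f * (2 * f - e)

theorem qf_nonneg (a b c d e f : ℤ) : 0 ≤ qf a b c d e f := by
  have h1 := sos a b c d e f
  have h2 : 0 ≤ 3 * (2 * a - c) ^ 2 + 3 * (2 * b - d) ^ 2 + 3 * (2 * f - e) ^ 2 + (3 * c - 2 * d) ^ 2 +
      (3 * e - 2 * d) ^ 2 + d ^ 2 := by positivity
  unfold qf
  omega

theorem bound (a b c d e f : ℤ) (h : qf a b c d e f = 30) :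
    (2 * b - d ≤ 7) ∧ (2 * d - b - c - e ≤ 7) ∧ (2 * e - d - f ≤ 7) ∧
    (2 * f - e ≤ 7) ∧ (2 * c - a - d ≤ 7) ∧ (-7 ≤ 2 * c - a - d) := by
  have h1 := qf_nonneg (2 * a) (2 * b - 8) (2 * c) (2 * d) (2 * e) (2 * f)
  have h2 := qf_nonneg (2 * a) (2 * b) (2 * c - 8) (2 * d) (2 * e) (2 * f)
  have h3 := qf_nonneg (2 * a) (2 * b) (2 * c) (2 * d - 8) (2 * e) (2 * f)
  have h4 := qf_nonneg (2 * a) (2 * b) (2 * c) (2 * d) (2 * e - 8) (2 * f)
  have h5 := qf_nonneg (2 * a) (2 * b) (2 * c) (2 * d) (2 * e) (2 * f - 8)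
  have h6 := qf_nonneg (2 * a) (2 * b) (2 * c + 8) (2 * d) (2 * e) (2 * f)
  unfold qf at h h1 h2 h3 h4 h5 h6
  refine ⟨?_, ?_, ?_, ?_, ?_, ?_⟩
  · have : 32 * (2 * b - d) ≤ 248 := by linarith
    omega
  · have : 32 * (2 * d - b - c - e) ≤ 248 := by linarith
    omega
  · have : 32 * (2 * e - d - f) ≤ 248 := by linarith
    omega
  · have : 32 * (2 * f - e) ≤ 248 := by linarith
    omega
  · have : 32 * (2 * c - a - d) ≤ 248 := by linarith
    omega
  · have : -248 ≤ 32 * (2 * c - a - d) := by linarith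
    omega

theorem cls (a b c d e f : ℤ) (h : qf a b c d e f = 30) (h0 : 2 * a - c = 0)
    (h1 : 0 ≤ 2 * b - d) (h1' : 6 ∣ 2 * b - d) (h2' : 3 ∣ 2 * c - a - d)
    (h3 : 0 ≤ 2 * d - b - c - e) (h3' : 6 ∣ 2 * d - b - c - e) (h4 : 0 ≤ 2 * e - d - f)
    (h4' : 6 ∣ 2 * e - d - f) (h5 : 0 ≤ 2 * f - e) (h5' : 6 ∣ 2 * f - e) (hm : 3 ∣ a - 5) :
    (a = 5 ∧ b = 6 ∧ c = 10 ∧ d = 12 ∧ e = 8 ∧ f = 4) ∨
    (a = -1 ∧ b = 0 ∧ c = -2 ∧ d = 0 ∧ e = 2 ∧ f = 4) := by
  obtain ⟨b1, b3, b4, b5, b2, b2'⟩ := bound a b c d e f h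
  have key : ∀ x : ℤ, 0 ≤ x → x ≤ 7 → 6 ∣ x → x = 0 ∨ x = 6 := by
    rintro x hx hx' ⟨y, rfl⟩
    omega
  have k1 := key _ h1 b1 h1'
  have k3 := key _ h3 b3 h3'
  have k4 := key _ h4 b4 h4'
  have k5 := key _ h5 b5 h5'
  have k2 : 2 * c - a - d = -6 ∨ 2 * c - a - d = -3 ∨ 2 * c - a - d = 0 ∨ 2 * c - a - d = 3 ∨ 2 * c - a - d = 6 := by
    omega
  unfold qf at h
  clear b1 b2 b3 b4 b5 b2' h1 h1' h2' h3 h3' h4 h4' h5 h5' key
  rcases k1 with k1 | k1 <;> rcases k3 with k3 | k3 <;> rcases k4 with k4 | k4 <;> rcases k5 with k5 | k5 <;>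
    rcases k2 with k2 | k2 | k2 | k2 | k2 <;>
    (rw [h0, k1, k2, k3, k4, k5] at h; omega)

theorem pairing_eq (h : IsCartan CoxeterMatrix.E₆ A) (i : Fin 6) (x : Fin 6 → ℤ) : pairing A i x = pairing row i x := by
  rw [A_eq h, e6_eq']

theorem bf_eq (h : IsCartan CoxeterMatrix.E₆ A) (x y : Fin 6 → ℤ) : bf A x y = bf row x y := by
  rw [A_eq h, e6_eq']

theorem pairing_zero (h : IsCartan CoxeterMatrix.E₆ A) (j : Fin 6) : pairing A j (sr 0) = row j 0 := by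
  rw [sr, pairing_single, mul_one, A_eq h, e6_eq]

theorem symm (h : IsCartan CoxeterMatrix.E₆ A) (i j : Fin 6) : A i j = A j i := by
  rw [A_eq h, e6_symm]

theorem bf_sr_right (h : IsCartan CoxeterMatrix.E₆ A) (x : Fin 6 → ℤ) (i : Fin 6) : bf A x (sr i) = pairing A i x := by
  rw [bf_comm (symm h), bf_sr_left]

theorem dom_om (h : IsCartan CoxeterMatrix.E₆ A) : Dom A om := by
  intro i
  rw [A_eq h, e6_eq', pairing_om]
  split_ifs <;> norm_num

/-- the orbit of `om` modulo `3` -/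
theorem rep_om_mod (h : IsCartan CoxeterMatrix.E₆ A) (w : W) : ∃ v : Fin 6 → ℤ, rep cs h w om = om + (3 : ℤ) • v := by
  obtain ⟨ω, rfl⟩ := cs.wordProd_surjective w
  induction ω with
  | nil => exact ⟨0, by rw [wordProd_nil, map_one, Module.End.one_apply, smul_zero, add_zero]⟩
  | cons i ω ih =>
    obtain ⟨v, hv⟩ := ih
    rw [wordProd_cons, rep_mul_apply, hv, map_add, map_smul, rep_simple_eq, pairing_eq h, pairing_om]
    by_cases hi : i = 2
    · rw [if_pos hi]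
      exact ⟨rep cs h (cs.simple i) v - sr i, by rw [smul_sub]; abel⟩
    · rw [if_neg hi]
      exact ⟨rep cs h (cs.simple i) v, by rw [zero_smul, sub_zero]⟩

/-- **the images of `ω₃`** -/
theorem rep_om (h : IsCartan CoxeterMatrix.E₆ A) {w : W} (h1 : ∀ i, i ≠ 2 → 0 ≤ rep cs h w⁻¹ (sr i))
    (h6 : rep cs h w (sr 0) = sr 0) : rep cs h w om = om ∨ rep cs h w om = om' := by
  -- the values of the coweight
  have hv : ∀ i, pairing A i (rep cs h w om) = 3 * rep cs h w⁻¹ (sr i) 2 := by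
    intro i
    rw [← bf_sr_right h, ← bf_rep (cs := cs) (h := h) (symm h) w⁻¹, rep_inv_apply]
    rw [bf_eq h]
    exact bf_om _
  have hn : ∀ i, i ≠ 2 → 0 ≤ pairing A i (rep cs h w om) := fun i hi => by
    rw [hv]
    have h3 : (0 : ℤ) ≤ rep cs h w⁻¹ (sr i) 2 := h1 i hi 2
    exact mul_nonneg (by norm_num) h3
  have h6' : rep cs h w⁻¹ (sr 0) = sr 0 := by
    conv_lhs => rw [← h6]
    rw [rep_inv_apply]
  have he : ∀ i, row i 0 = 0 → 6 ∣ pairing A i (rep cs h w om) := by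
    intro i hi
    rw [hv]
    have h2 : bf A (rep cs h w⁻¹ (sr i)) (sr 0) = 0 := by
      rw [← h6', bf_rep (symm h), bf_sr_left, pairing_zero h, hi]
    rw [bf_sr_right h, pairing_eq h, (pairing_row _).1] at h2
    exact ⟨rep cs h w⁻¹ (sr i) 0, by omega⟩
  have hs : pairing A 0 (rep cs h w om) = 0 := by
    rw [hv, h6']; decide
  have hd : 3 ∣ pairing A 2 (rep cs h w om) := ⟨_, hv 2⟩
  have hq : bf A (rep cs h w om) (rep cs h w om) = 30 := by
    rw [bf_rep (symm h), bf_eq h, bf_om]; decide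
  obtain ⟨v, hmod⟩ := rep_om_mod (cs := cs) h w
  have hm : 3 ∣ rep cs h w om 0 - 5 := by
    rw [hmod]
    refine ⟨v 0, ?_⟩
    simp [om]
  rw [bf_eq h] at hq
  rw [pairing_eq h] at hs hd
  simp only [pairing_eq h] at hn he
  set s := rep cs h w om with hsdef
  obtain ⟨p0, p1, p2, p3, p4, p5⟩ := pairing_row s
  have hq' : qf (s 0) (s 1) (s 2) (s 3) (s 4) (s 5) = 30 := by
    rw [← hq]
    unfold bf qf
    rw [Fin.sum_univ_six, p0, p1, p2, p3, p4, p5]
  have hc := cls (s 0) (s 1) (s 2) (s 3) (s 4) (s 5) hq' (p0 ▸ hs) (p1 ▸ hn 1 (by decide))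
    (p1 ▸ he 1 (by decide)) (p2 ▸ hd) (p3 ▸ hn 3 (by decide)) (p3 ▸ he 3 (by decide)) (p4 ▸ hn 4 (by decide))
    (p4 ▸ he 4 (by decide)) (p5 ▸ hn 5 (by decide)) (p5 ▸ he 5 (by decide)) hm
  rcases hc with ⟨a0, a1, a2, a3, a4, a5⟩ | ⟨a0, a1, a2, a3, a4, a5⟩
  · left
    funext i
    fin_cases i <;> simp [om, a0, a1, a2, a3, a4, a5]
  · right
    funext i
    fin_cases i <;> simp [om', a0, a1, a2, a3, a4, a5]

/-- **At most two minimal representatives of the double cosets of `W_J` fix `α₁`.** -/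
theorem card_le_two [Finite W] (h : IsCartan CoxeterMatrix.E₆ A) {S : Finset W}
    (hS : ∀ w ∈ S, (∀ i, i ≠ 2 → 0 ≤ rep cs h w⁻¹ (sr i)) ∧ (∀ i, i ≠ 2 → 0 ≤ rep cs h w (sr i)) ∧
      rep cs h w (sr 0) = sr 0) : S.card ≤ 2 := by
  classical
  have h1 : S.card ≤ ({om, om'} : Finset (Fin 6 → ℤ)).card := by
    refine Finset.card_le_card_of_injOn (fun w => rep cs h w om) ?_ ?_
    · intro w hw
      obtain ⟨h1, h2, h3⟩ := hS w hw
      rcases rep_om h h1 h3 with h4 | h4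
      · simp [h4]
      · simp [h4]
    · intro w hw w' hw' he
      refine Cfsg.Agent.H497.Gow.min_unique (J := {i | i ≠ 2}) (dom_om h) ?_ (fun i hi => (hS w hw).2.1 i hi)
        (fun i hi => (hS w' hw').2.1 i hi) he
      intro i hi
      rw [pairing_eq h, pairing_om] at hi
      intro h5
      rw [if_pos h5] at hi
      exact absurd hi (by norm_num)
  exact h1.trans Finset.card_le_two

end Cfsg.Agent.H650.GowSix
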