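import Cfsg.Agent.H497.Gow.ChevNode
import Cfsg.Agent.H650.GowCombSix
import Cfsg.Agent.H650.GowChev

/-!
# S4913: the groups `E₆(q)`, `q` even (helper650)
-/

set_option autoImplicit false

namespace Cfsg.Agent.H650.GowSix

open CoxeterSystem Cfsg.Agent.ChevalleyStructure.CoxeterGeom Cfsg.Agent.Tits.Roots Cfsg.Agent.Tits.Core
  Cfsg.Agent.H53.HC Cfsg.Agent.H636.Gow Cfsg.Agent.Nodes.RGDChev Cfsg.Agent.H650.GowChev Cfsg.Agent.H497.Gow
open Cfsg.Lie Cfsg.Agent.ChevalleyStructure.CoxeterGeomTypes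

theorem m6_zero : ∀ i : Fin 6, i ≠ 0 → i ≠ 2 → m6 0 i = 2 := by decide +kernel

/-- **`E₆(q)`, `q` even.** -/
theorem e_six (F : Type*) [Field F] [Fintype F] [CharP F 2] : RatOdd ↥(chevE6.group F) := by
  by_cases h3 : 3 ∣ Fintype.card F - 1
  · exact ratOdd_one_mod h3 chevE6 (by simp)
  · have hp := isType6
    let cs : CoxeterSystem CoxeterMatrix.E₆ CoxeterMatrix.E₆.Group := CoxeterMatrix.E₆.toCoxeterSystem
    have := finite_W hp cs
    refine ratOdd_chev hp cs (k := 0) (K' := {i | i ≠ 2 ∧ i ≠ 0}) (by rw [Nat.card_eq_fintype_card]; exact h3) ?_ ?_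
    · rintro i hi j ⟨hj5, hj6⟩
      rw [Set.mem_singleton_iff] at hi
      subst hi
      have h1 : cartanOf chevE6 6 0 j = 0 := by
        rw [entry hp.isCartan, if_neg hj6.symm, if_neg (by rw [m6_zero j hj6 hj5]; decide)]
      exact ⟨hj6.symm, h1, (symm hp.isCartan j 0).trans h1⟩
    · intro S hS
      refine (card_le_two (cs := cs) hp.isCartan fun w hw => ?_).trans (by norm_num)
      obtain ⟨⟨h1, h2⟩, h4⟩ := hS w hw
      have hmem : ∀ i : Fin 6, i ≠ 2 → i ∈ ({0} ∪ {i | i ≠ 2 ∧ i ≠ 0} : Set (Fin 6)) := by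
        intro i hi
        by_cases h6 : i = 0
        · exact Or.inl h6
        · exact Or.inr ⟨hi, h6⟩
      exact ⟨fun i hi => h1 i (hmem i hi), fun i hi => h2 i (hmem i hi), h4⟩

end Cfsg.Agent.H650.GowSix
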