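import Cfsg.Agent.H650.PGLData
import Mathlib.NumberTheory.JacobiSum.Basic

/-!
# A nonsplit element of `PGL₂(F)` outside `PSL₂(F)` (helper650)
-/

set_option autoImplicit false
set_option linter.unusedSimpArgs false

open Cfsg
open scoped ComplexConjugate

namespace Cfsg.Agent.H650.CuspElt

open Matrix MatrixGroups Cfsg.Agent.Characters.Core Cfsg.Agent.H670.RankOne Cfsg.Agent.H650.PGLData
open Cfsg.Agent.H670.GL2 (e00 e01 e10 e11 ext4 mul00 mul01 mul10 mul11 x x00 x01 x10 x11 tor tor00 tor01 tor10
  tor11 wel wel00 wel01 wel10 wel11 tor_mul_x wel_mul_tor anti mk00 mk01 mk10 mk11 det_ne mk)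

universe v

variable {F : Type v} [Field F]

/-- The matrix `a + c (0, -n; 1, 1)`. -/
noncomputable def yy (n a c : F) (h : a * (a + c) - (-(n * c)) * c ≠ 0) : GL (Fin 2) F := mk a (-(n * c)) c (a + c) h

section

variable {n : F} (hn : ¬ IsSquare (1 - 4 * n))

include hn in
/-- The norm form is anisotropic. -/
theorem aniso {a c : F} (h : a ≠ 0 ∨ c ≠ 0) : a * (a + c) - (-(n * c)) * c ≠ 0 := by
  intro h0
  by_cases hc : c = 0
  · subst hc
    have : a * a = 0 := by linear_combination h0
    have ha : a = 0 := by simpa using this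
    rcases h with h | h
    · exact h ha
    · exact h rfl
  · apply hn
    refine ⟨(2 * a + c) * c⁻¹, ?_⟩
    have hcc : c * c⁻¹ = 1 := mul_inv_cancel₀ hc
    field_simp
    linear_combination -4 * h0

/-- The element. -/
noncomputable def y0 (n : F) (hn : ¬ IsSquare (1 - 4 * n)) : GL (Fin 2) F := yy n 0 1 (aniso hn (Or.inr one_ne_zero))

theorem y00 : e00 (y0 n hn) = 0 := rfl
theorem y01 : e01 (y0 n hn) = -(n * 1) := rfl
theorem y10 : e10 (y0 n hn) = 1 := rfl
theorem y11 : e11 (y0 n hn) = 0 + 1 := rfl

theorem notMem (g : PGL(2, F)) : g⁻¹ * pr (y0 n hn) * g ∉ (data F).B := by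
  rintro ⟨s, _, ⟨u, rfl⟩, h⟩
  obtain ⟨g, rfl⟩ := pr_surj g
  rw [data_X] at h
  have h1 : pr (y0 n hn * g) = pr (g * (x s * tor (u, 1))) := by
    rw [pr_mul, pr_mul, pr_mul, ← tp_apply, ← h]
    group
  rw [pr_eq_iff] at h1
  obtain ⟨k, h0, -, h2, -⟩ := h1
  simp only [mul00, mul01, mul10, mul11, x00, x01, x10, x11, tor00, tor01, tor10, tor11, y00, y01, y10, y11] at h0 h2
  have hdet := det_ne g
  -- `y g e₁ = l g e₁`
  obtain ⟨l, hl⟩ : ∃ l : F, (k : F) * l = u := ⟨(k : F)⁻¹ * u, by
    rw [mul_inv_cancel_left₀ k.ne_zero]⟩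
  have hk : (k : F) ≠ 0 := k.ne_zero
  have h3 : l * e00 g = -(n * e10 g) := by
    apply mul_left_cancel₀ hk
    linear_combination h0 + e00 g * hl
  have h4 : l * e10 g = e00 g + e10 g := by
    apply mul_left_cancel₀ hk
    linear_combination h2 + e10 g * hl
  have h5 : e10 g ≠ 0 := by
    intro h6
    rw [h6] at h4
    have h7 : e00 g = 0 := by linear_combination -h4
    apply hdet
    rw [h6, h7]
    ring
  have h6 : l * l - l + n = 0 := by
    apply mul_right_cancel₀ h5
    linear_combination l * h4 + h3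
  apply hn
  exact ⟨2 * l - 1, by linear_combination (-4) * h6⟩

theorem mem_centralizer_iff (g : GL (Fin 2) F) : pr g ∈ Subgroup.centralizer ({pr (y0 n hn)} : Set (PGL(2, F))) ↔
    e01 g = -(n * e10 g) ∧ e11 g = e00 g + e10 g := by
  rw [Subgroup.mem_centralizer_singleton_iff, ← pr_mul, ← pr_mul]
  constructor
  · intro h
    rw [pr_eq_iff] at h
    obtain ⟨u, h0, h1, h2, h3⟩ := h
    simp only [mul00, mul01, mul10, mul11, y00, y01, y10, y11] at h0 h1 h2 h3
    have hdet := det_ne g
    have hu : (u : F) = 1 := by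
      apply mul_right_cancel₀ hdet
      linear_combination (-(e11 g)) * h0 + (e10 g) * h1 + (e01 g) * h2 - (e00 g) * h3
    rw [hu] at h0 h1 h2 h3
    constructor
    · linear_combination -h0
    · linear_combination -h2
  · rintro ⟨h1, h2⟩
    congr 1
    apply ext4 <;> simp only [mul00, mul01, mul10, mul11, y00, y01, y10, y11, h1, h2] <;> ring

theorem card_centralizer [Fintype F] :
    Nat.card (Subgroup.centralizer ({pr (y0 n hn)} : Set (PGL(2, F)))) = Fintype.card F + 1 := by
  have key : ∀ o : Option F, ∃ a c : F, (a ≠ 0 ∨ c ≠ 0) ∧ (o = none → a = 1 ∧ c = 0) ∧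
      (∀ b, o = some b → a = b ∧ c = 1) := by
    rintro (_ | b)
    · exact ⟨1, 0, Or.inl one_ne_zero, fun _ => ⟨rfl, rfl⟩, by rintro b ⟨⟩⟩
    · exact ⟨b, 1, Or.inr one_ne_zero, (by rintro ⟨⟩), by
        intro b' h
        exact ⟨Option.some_injective _ h, rfl⟩⟩
  choose a c hac hnone hsome using key
  have hmem : ∀ o, pr (yy n (a o) (c o) (aniso hn (hac o))) ∈
      Subgroup.centralizer ({pr (y0 n hn)} : Set (PGL(2, F))) := by
    intro o
    rw [mem_centralizer_iff]
    exact ⟨rfl, rfl⟩
  have hb : Function.Bijective fun o : Option F =>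
      (⟨pr (yy n (a o) (c o) (aniso hn (hac o))), hmem o⟩ : Subgroup.centralizer ({pr (y0 n hn)} : Set (PGL(2, F)))) := by
    constructor
    · intro o o' h
      have h1 := congrArg Subtype.val h
      simp only at h1
      rw [pr_eq_iff] at h1
      obtain ⟨u, h0, -, h2, -⟩ := h1
      have h0' : a o' = u * a o := h0
      have h2' : c o' = u * c o := h2
      rcases o with _ | b
      · rcases o' with _ | b'
        · rfl
        · rw [(hnone none rfl).2, mul_zero, (hsome (some b') b' rfl).2] at h2'
          exact absurd h2' one_ne_zero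
      · rcases o' with _ | b'
        · rw [(hnone none rfl).2, (hsome (some b) b rfl).2, mul_one] at h2'
          exact absurd h2'.symm u.ne_zero
        · rw [(hsome (some b) b rfl).2, (hsome (some b') b' rfl).2, mul_one] at h2'
          rw [(hsome (some b) b rfl).1, (hsome (some b') b' rfl).1, ← h2', one_mul] at h0'
          rw [h0']
    · rintro ⟨g, hg⟩
      obtain ⟨g, rfl⟩ := pr_surj g
      have hg' := (mem_centralizer_iff hn g).1 hg
      have hdet := det_ne g
      by_cases hc : e10 g = 0
      · refine ⟨none, Subtype.ext ?_⟩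
        show pr (yy n (a none) (c none) _) = pr g
        rw [pr_eq_iff]
        have ha : e00 g ≠ 0 := by
          intro h
          apply hdet
          rw [hc, h]
          ring
        refine ⟨Units.mk0 _ ha, ?_, ?_, ?_, ?_⟩
        · show e00 g = e00 g * a none
          rw [(hnone none rfl).1, mul_one]
        · show e01 g = e00 g * (-(n * c none))
          rw [(hnone none rfl).2, hg'.1, hc]
          ring
        · show e10 g = e00 g * c none
          rw [(hnone none rfl).2, hc]
          ring
        · show e11 g = e00 g * (a none + c none)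
          rw [(hnone none rfl).1, (hnone none rfl).2, hg'.2, hc]
          ring
      · refine ⟨some (e00 g * (e10 g)⁻¹), Subtype.ext ?_⟩
        obtain ⟨s1, s2⟩ := hsome (some (e00 g * (e10 g)⁻¹)) _ rfl
        show pr (yy n (a (some (e00 g * (e10 g)⁻¹))) (c (some (e00 g * (e10 g)⁻¹))) _) = pr g
        rw [pr_eq_iff]
        have hcc : e10 g * (e10 g)⁻¹ = 1 := mul_inv_cancel₀ hc
        refine ⟨Units.mk0 _ hc, ?_, ?_, ?_, ?_⟩
        · show e00 g = e10 g * a _
          rw [s1]
          linear_combination -(e00 g) * hcc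
        · show e01 g = e10 g * (-(n * c _))
          rw [s2, hg'.1]
          ring
        · show e10 g = e10 g * c _
          rw [s2]
          ring
        · show e11 g = e10 g * (a _ + c _)
          rw [s1, s2, hg'.2]
          linear_combination -(e00 g) * hcc
  rw [← Nat.card_congr (Equiv.ofBijective _ hb), Nat.card_eq_fintype_card, Fintype.card_option]

theorem det_y0 : (y0 n hn).det.val = n := by
  rw [GeneralLinearGroup.val_det_apply, Matrix.det_fin_two]
  have h0 : (y0 n hn : Matrix (Fin 2) (Fin 2) F) 0 0 = 0 := rfl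
  have h1 : (y0 n hn : Matrix (Fin 2) (Fin 2) F) 0 1 = -(n * 1) := rfl
  have h2 : (y0 n hn : Matrix (Fin 2) (Fin 2) F) 1 0 = 1 := rfl
  rw [h0, h1, h2]
  ring

theorem isSquare_det (h : IsSquare (y0 n hn).det) : IsSquare n := by
  obtain ⟨u, hu⟩ := h
  refine ⟨u, ?_⟩
  rw [← det_y0 hn, hu, Units.val_mul]

end

/-- The number of `n` with `n` and `1 - 4 n` nonsquares. -/
theorem four_mul_card [Fintype F] [DecidableEq F] (h2 : ringChar F ≠ 2) :
    ∃ e : ℤ, (e = 1 ∨ e = -1) ∧
      4 * (Nat.card {n : F // ¬ IsSquare n ∧ ¬ IsSquare (1 - 4 * n)} : ℤ) = Fintype.card F + e := by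
  classical
  have h2' : (2 : F) ≠ 0 := Ring.two_ne_zero h2
  have h4' : (4 : F) ≠ 0 := by
    have : (4 : F) = 2 * 2 := by norm_num
    rw [this]
    exact mul_ne_zero h2' h2'
  refine ⟨-quadraticChar F (-1), ?_, ?_⟩
  · rcases quadraticChar_dichotomy (F := F) (neg_ne_zero.2 (one_ne_zero (α := F))) with h | h <;> rw [h] <;> simp
  · have h1 : ∀ n : F, (if ¬ IsSquare n ∧ ¬ IsSquare (1 - 4 * n) then (4 : ℤ) else 0) =
        (1 - quadraticChar F n) * (1 - quadraticChar F (1 - 4 * n)) +
          ((if n = 0 then (0 : ℤ) else 0)) := by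
      intro n
      have hz : ∀ m : F, IsSquare m → m ≠ 0 → quadraticChar F m = 1 := fun m hm h0 =>
        (quadraticChar_one_iff_isSquare h0).2 hm
      have hns : ∀ m : F, ¬ IsSquare m → quadraticChar F m = -1 := fun m hm =>
        quadraticChar_neg_one_iff_not_isSquare.2 hm
      have hq4 : quadraticChar F (4⁻¹ : F) = 1 := by
        apply hz
        · exact ⟨2⁻¹, by rw [← mul_inv]; norm_num⟩
        · exact inv_ne_zero h4'
      by_cases a1 : IsSquare n
      · rw [if_neg (fun h => h.1 a1)]
        by_cases a0 : n = 0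
        · rw [a0, mul_zero, sub_zero, quadraticChar_zero, map_one]
          simp
        · rw [hz n a1 a0]
          simp
      · by_cases b1 : IsSquare (1 - 4 * n)
        · rw [if_neg (fun h => h.2 b1)]
          by_cases b0 : 1 - 4 * n = 0
          · exfalso
            apply a1
            refine ⟨2⁻¹, ?_⟩
            have h5 : n = 4⁻¹ := by
              field_simp
              linear_combination -b0
            rw [h5, ← mul_inv]
            norm_num
          · rw [hz _ b1 b0]
            simp
        · rw [if_pos ⟨a1, b1⟩, hns _ a1, hns _ b1]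
          simp
    have hsum := Finset.sum_congr rfl fun n (_ : n ∈ Finset.univ) => h1 n
    have hJ : ∑ n : F, quadraticChar F n * quadraticChar F (1 - 4 * n) = - quadraticChar F (-1) := by
      have h5 := jacobiSum_nontrivial_inv (quadraticChar_ne_one h2)
      rw [(quadraticChar_isQuadratic F).inv] at h5
      rw [← h5, jacobiSum]
      refine Fintype.sum_equiv (Equiv.mulLeft₀ (4 : F) h4') _ _ fun n => ?_
      show quadraticChar F n * quadraticChar F (1 - 4 * n) = quadraticChar F (4 * n) * quadraticChar F (1 - 4 * n)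
      rw [map_mul, (quadraticChar_one_iff_isSquare h4').2 ⟨2, by norm_num⟩, one_mul]
    have hs1 : ∑ n : F, quadraticChar F (1 - 4 * n) = 0 := by
      rw [← quadraticChar_sum_zero h2]
      refine Fintype.sum_equiv ((Equiv.mulLeft₀ (4 : F) h4').trans (Equiv.subLeft 1)) _ _ fun n => rfl
    rw [Finset.sum_ite, Finset.sum_const_zero, add_zero, Finset.sum_const, nsmul_eq_mul] at hsum
    have hc : (Nat.card {n : F // ¬ IsSquare n ∧ ¬ IsSquare (1 - 4 * n)} : ℤ) =
        ((Finset.univ.filter fun n : F => ¬ IsSquare n ∧ ¬ IsSquare (1 - 4 * n)).card : ℤ) := by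
      rw [Nat.card_eq_fintype_card, Fintype.card_subtype]
    rw [hc, mul_comm, hsum]
    have h6 : ∀ n : F, (1 - quadraticChar F n) * (1 - quadraticChar F (1 - 4 * n)) + (if n = 0 then (0 : ℤ) else 0) =
        1 - quadraticChar F n - quadraticChar F (1 - 4 * n) + quadraticChar F n * quadraticChar F (1 - 4 * n) := by
      intro n
      simp only [ite_self]
      ring
    rw [Finset.sum_congr rfl fun n _ => h6 n, Finset.sum_add_distrib, Finset.sum_sub_distrib, Finset.sum_sub_distrib,
      quadraticChar_sum_zero h2, hs1, hJ, Finset.sum_const, Finset.card_univ]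
    simp

end Cfsg.Agent.H650.CuspElt
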