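import Cfsg.Agent.H670.RankOneSurj
import Cfsg.Agent.H670.RankOneSt
import Cfsg.Agent.H686.CharKit

/-!
# The sum of the squares of the values of the cuspidal characters at a nonsplit element (helper650)
-/

set_option autoImplicit false

open Cfsg
open scoped ComplexConjugate

namespace Cfsg.Agent.H650.CuspSum

open Cfsg.Agent.Characters.Core Cfsg.Agent.H670.RankOne

universe u v

theorem mul_conj_of_linear {G : Type u} [Group G] [Finite G] {χ : G → ℂ} (hχ : IsIrrCharacter G χ) (h1 : χ 1 = 1)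
    (g : G) : χ g * conj (χ g) = 1 := by
  obtain ⟨f, rfl⟩ := Characters.Linear.exists_hom_of_isIrrCharacter hχ h1
  have h2 : (f g : ℂ) ^ Nat.card G = 1 := by
    rw [← Units.val_pow_eq_pow_val, ← map_pow, pow_card_eq_one', map_one, Units.val_one]
  have h3 := Complex.norm_eq_one_of_pow_eq_one h2 Nat.card_pos.ne'
  rw [Complex.mul_conj', h3]
  norm_num

variable {G : Type u} [Group G] {F : Type v} [Field F] [Fintype F] (D : Data G F) [Fintype G]

/-- The values of the noncuspidal characters. -/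
theorem mul_conj_eq (hA : HasAnti D) (ha : Function.Surjective D.a) {y : G} (hy : ∀ x : G, x⁻¹ * y * x ∉ D.B)
    (χ : IrrCharacter G) :
    (χ : G → ℂ) y * conj ((χ : G → ℂ) y) = (if D.n χ 0 = 0 then (χ : G → ℂ) y * conj ((χ : G → ℂ) y) else 0) +
      ((if (D.n χ 0, D.n χ 1) = (1, 0) then 1 else 0) + (if (D.n χ 0, D.n χ 1) = (1, 1) then 1 else 0)) := by
  have h1 := D.types_surj hA ha χ
  have hdeg := D.degree_eq χ
  rw [D.sum_n_eq ha] at hdeg
  have hpos : 1 ≤ Fintype.card F := Fintype.card_pos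
  simp only [Finset.mem_insert, Finset.mem_singleton, Prod.mk.injEq] at h1
  rcases h1 with ⟨a1, a2⟩ | ⟨a1, a2⟩ | ⟨a1, a2⟩ | ⟨a1, a2⟩
  · rw [a1, a2]
    have h2 : (χ : G → ℂ) y = 0 := by
      rcases D.trichotomy χ.2 with h | ⟨h, _⟩ | ⟨_, lam, _, hl⟩
      · rw [D.cf_eq_n, a1] at h; norm_num at h
      · rw [D.cf_eq_n, a1] at h; norm_num at h
      · rw [hl]
        exact D.ind_of_notMem lam hy
    rw [h2]
    simp
  · rw [a1, a2] at hdeg ⊢
    have h2 : (χ : G → ℂ) 1 = 1 := by rw [hdeg]; simp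
    rw [mul_conj_of_linear χ.2 h2]
    simp
  · rw [a1, a2] at hdeg ⊢
    have h2 : (χ : G → ℂ) 1 = Fintype.card F := by
      rw [hdeg, mul_one, Nat.add_sub_cancel' hpos]
    obtain ⟨lam, χ', hlam, -, -, hirr, hone, -, hsum⟩ := D.steinberg_cases hA χ.2 h2
    have h3 : (χ : G → ℂ) y = - χ' y := by
      have h4 := congrFun hsum y
      rw [D.ind_of_notMem lam hy, Pi.add_apply] at h4
      linear_combination -h4
    have h5 := mul_conj_of_linear hirr hone y
    rw [h3, map_neg, neg_mul_neg, h5]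
    simp
  · rw [a1, a2]
    simp

/-- **The sum over the cuspidal characters.** -/
theorem sum_cusp [Fintype (IrrCharacter G)] (hA : HasAnti D) (ha : Function.Surjective D.a) {f : ℕ}
    (hf : Nat.card {lam : D.T →* ℂˣ // lam = lam.comp D.wT} = f) {y : G} (hy : ∀ x : G, x⁻¹ * y * x ∉ D.B) :
    (∑ χ : IrrCharacter G, if D.n χ 0 = 0 then (χ : G → ℂ) y * conj ((χ : G → ℂ) y) else 0) + 2 * f =
      (Nat.card (Subgroup.centralizer ({y} : Set G)) : ℂ) := by
  classical
  have := finite_hom D.comm_T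
  have : Fintype (D.T →* ℂˣ) := Fintype.ofFinite _
  rw [Nat.card_eq_fintype_card, Fintype.card_subtype] at hf
  obtain ⟨-, c1, c2, -⟩ := D.counts_surj hA ha f hf
  have h1 := H686.CharKit.col_orth y y
  rw [if_pos (IsConj.refl y), Finset.sum_congr rfl fun χ _ => mul_conj_eq D hA ha hy χ, Finset.sum_add_distrib,
    Finset.sum_add_distrib, Finset.sum_boole, Finset.sum_boole, c1, c2] at h1
  rw [← h1]
  ring

/-- The degree of the cuspidal characters. -/
theorem cusp_one (hA : HasAnti D) (ha : Function.Surjective D.a) (χ : IrrCharacter G) (h0 : D.n χ 0 = 0) :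
    (χ : G → ℂ) 1 = ((Fintype.card F - 1 : ℕ) : ℂ) := by
  have h1 := D.types_surj hA ha χ
  have hdeg := D.degree_eq χ
  rw [D.sum_n_eq ha] at hdeg
  simp only [Finset.mem_insert, Finset.mem_singleton, Prod.mk.injEq, h0] at h1
  rcases h1 with ⟨a1, a2⟩ | ⟨a1, a2⟩ | ⟨a1, a2⟩ | ⟨a1, a2⟩
  · omega
  · omega
  · omega
  · rw [hdeg, h0, a2, zero_add, mul_one]

omit [Fintype G] in
/-- Cuspidality through the sum over the root group. -/
theorem n_zero_iff (χ : IrrCharacter G) : D.n χ 0 = 0 ↔ ∑ s : F, (χ : G → ℂ) (D.X s) = 0 := by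
  rw [D.n_eq_iff, D.sum_X, Nat.cast_zero, mul_eq_zero, or_iff_right (cardF_ne F)]

end Cfsg.Agent.H650.CuspSum
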