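import Cfsg.Agent.H650.CuspElt
import Cfsg.Agent.H650.CuspSum
import Cfsg.Agent.H687.Gen

/-!
# A cuspidal character of `PGL₂(F)` fixed by the field automorphisms of `p`-power order (helper650)
-/

set_option autoImplicit false

open Cfsg
open scoped ComplexConjugate

namespace Cfsg.Agent.H650.CuspPGL

open Matrix MatrixGroups Cfsg.Agent.Characters.Core Cfsg.Agent.H670.RankOne Cfsg.Agent.H650.PGLData
open Cfsg.Agent.H650.CuspElt Cfsg.Agent.H650.CuspSum
open Matrix.GeneralLinearGroup (upperRightHom)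
open Cfsg.Agent.H670.GL2 (e00 e01 e10 e11 ext4 x)

universe v

variable {F : Type v} [Field F]

/-- The automorphism of `PGL₂(F)` given by a field automorphism. -/
noncomputable def mapE (θ : F ≃+* F) : MulAut (PGL(2, F)) :=
  MonoidHom.toMulEquiv (ProjGenLinGroup.map (θ : F →+* F)) (ProjGenLinGroup.map (θ.symm : F →+* F))
    (by
      rw [← ProjGenLinGroup.map_comp]
      convert ProjGenLinGroup.map_id
      ext a
      simp)
    (by
      rw [← ProjGenLinGroup.map_comp]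
      convert ProjGenLinGroup.map_id
      ext a
      simp)

theorem mapE_apply (θ : F ≃+* F) (g : GL (Fin 2) F) :
    mapE θ (ProjGenLinGroup.mk g) = ProjGenLinGroup.mk (GeneralLinearGroup.map (θ : F →+* F) g) := rfl

/-- The homomorphism from the field automorphisms. -/
noncomputable def mapH (F : Type v) [Field F] : (F ≃+* F) →* MulAut (PGL(2, F)) where
  toFun := mapE
  map_one' := by
    ext g
    obtain ⟨g, rfl⟩ := ProjGenLinGroup.mk_surjective g
    rw [mapE_apply, MulAut.one_apply]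
    congr 1
  map_mul' θ θ' := by
    ext g
    obtain ⟨g, rfl⟩ := ProjGenLinGroup.mk_surjective g
    rw [MulAut.mul_apply, mapE_apply, mapE_apply, mapE_apply]
    congr 1

theorem mapH_apply (θ : F ≃+* F) (g : GL (Fin 2) F) :
    mapH F θ (ProjGenLinGroup.mk g) = ProjGenLinGroup.mk (GeneralLinearGroup.map (θ : F →+* F) g) := rfl

theorem x_eq (s : F) : x s = upperRightHom s := by
  apply Units.ext
  ext i j
  fin_cases i <;> fin_cases j <;> rfl

/-- Commutativity of the group of automorphisms of a finite field. -/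
theorem comm_aut [Finite F] (θ θ' : F ≃+* F) : θ * θ' = θ' * θ := by
  obtain ⟨p, hp⟩ := CharP.exists F
  have : Fact p.Prime := ⟨CharP.char_is_prime F p⟩
  have : Fintype F := Fintype.ofFinite F
  let _ : Algebra (ZMod p) F := ZMod.algebra F p
  let up : (F ≃+* F) → (F ≃ₐ[ZMod p] F) := fun θ => AlgEquiv.ofRingEquiv (f := θ) (fun r => by
    have := (RingHom.congr_fun (Subsingleton.elim ((θ : F →+* F).comp (algebraMap (ZMod p) F)) (algebraMap (ZMod p) F)) r)
    exact this)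
  have h1 : ∀ θ a, up θ a = θ a := fun _ _ => rfl
  have h2 : up θ * up θ' = up θ' * up θ := by
    obtain ⟨g, hg⟩ := IsCyclic.exists_generator (α := F ≃ₐ[ZMod p] F)
    obtain ⟨i, hi⟩ := Subgroup.mem_zpowers_iff.1 (hg (up θ))
    obtain ⟨j, hj⟩ := Subgroup.mem_zpowers_iff.1 (hg (up θ'))
    rw [← hi, ← hj, ← _root_.zpow_add, ← _root_.zpow_add, add_comm]
  ext a
  have h3 := DFunLike.congr_fun h2 a
  exact h3

/-- The automorphisms of `p`-power order. -/
def pAut (p : ℕ) (F : Type v) [Field F] [Finite F] : Subgroup (F ≃+* F) where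
  carrier := {θ | ∃ m : ℕ, θ ^ p ^ m = 1}
  one_mem' := ⟨0, one_pow _⟩
  mul_mem' := by
    rintro a b ⟨m, hm⟩ ⟨n, hn⟩
    refine ⟨m + n, ?_⟩
    rw [(show Commute a b from comm_aut a b).mul_pow, pow_add, pow_mul, hm, one_pow, one_mul, mul_comm, pow_mul, hn,
      one_pow]
  inv_mem' := by
    rintro a ⟨m, hm⟩
    exact ⟨m, by rw [inv_pow, hm, inv_one]⟩

theorem mem_pAut {p : ℕ} [Finite F] {θ : F ≃+* F} : θ ∈ pAut p F ↔ ∃ m : ℕ, θ ^ p ^ m = 1 := Iff.rfl

theorem isPGroup_pAut {p : ℕ} [Finite F] : IsPGroup p (pAut p F) := by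
  rintro ⟨θ, m, hm⟩
  exact ⟨m, Subtype.ext hm⟩

/-- A fixed point in an invariant subset. -/
theorem exists_fixed {Γ X : Type*} [Group Γ] [MulAction Γ X] {p : ℕ} [Fact p.Prime] (hΓ : IsPGroup p Γ) (s : Set X)
    (hs : ∀ (g : Γ) (x : X), x ∈ s → g • x ∈ s) (hc : ¬ p ∣ Nat.card s) : ∃ x ∈ s, ∀ g : Γ, g • x = x := by
  let A : SubMulAction Γ X := ⟨s, fun g {x} hx => hs g x hx⟩
  obtain ⟨x, hx⟩ := hΓ.nonempty_fixed_point_of_prime_not_dvd_card A hc
  exact ⟨x, x.2, fun g => congrArg Subtype.val (hx g)⟩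

theorem isSquare_map (θ : F ≃+* F) (a : F) : IsSquare (θ a) ↔ IsSquare a := by
  constructor
  · rintro ⟨b, hb⟩
    refine ⟨θ.symm b, ?_⟩
    rw [← map_mul, ← hb, RingEquiv.symm_apply_apply]
  · rintro ⟨b, rfl⟩
    exact ⟨θ b, map_mul _ _ _⟩

/-- The parameter. -/
theorem exists_n {p : ℕ} [Fact p.Prime] (hp : 3 < p) (F : Type v) [Field F] [Fintype F] [CharP F p] :
    ∃ n : F, ¬ IsSquare n ∧ ¬ IsSquare (1 - 4 * n) ∧ ∀ θ ∈ pAut p F, θ n = n := by
  classical
  have hr : ringChar F = p := ringChar.eq F p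
  have h2 : ringChar F ≠ 2 := by rw [hr]; omega
  obtain ⟨e, he, hcard⟩ := four_mul_card (F := F) h2
  have hq : p ∣ Fintype.card F := by
    obtain ⟨n, -, hn⟩ := FiniteField.card F p
    rw [hn]
    exact dvd_pow_self p n.pos.ne'
  let _ : MulAction (pAut p F) F :=
    { smul := fun θ a => (θ : F ≃+* F) a
      one_smul := fun a => rfl
      mul_smul := fun θ θ' a => rfl }
  have hsm : ∀ (θ : pAut p F) (a : F), θ • a = (θ : F ≃+* F) a := fun _ _ => rfl
  obtain ⟨n, hn, hfix⟩ := exists_fixed (isPGroup_pAut (p := p) (F := F))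
    {n : F | ¬ IsSquare n ∧ ¬ IsSquare (1 - 4 * n)} (by
      rintro θ n ⟨h1, h2⟩
      rw [hsm]
      refine ⟨fun h => h1 ((isSquare_map _ _).1 h), fun h => h2 ?_⟩
      rw [← isSquare_map (θ : F ≃+* F)]
      rwa [map_sub, map_mul, map_one, map_ofNat]) (by
      intro hd
      have hd' : (p : ℤ) ∣ (Nat.card {n : F // ¬ IsSquare n ∧ ¬ IsSquare (1 - 4 * n)} : ℤ) :=
        Int.natCast_dvd_natCast.2 hd
      have hq' : (p : ℤ) ∣ Fintype.card F := Int.natCast_dvd_natCast.2 hq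
      have h3 : (p : ℤ) ∣ e := by
        have h4 : e = 4 * (Nat.card {n : F // ¬ IsSquare n ∧ ¬ IsSquare (1 - 4 * n)} : ℤ) - Fintype.card F := by
          rw [hcard]; ring
        rw [h4]
        exact dvd_sub (hd'.mul_left _) hq'
      have h5 : (p : ℤ) ∣ 1 := by
        rcases he with rfl | rfl
        · exact h3
        · exact (dvd_neg.1 h3)
      have h6 := Int.le_of_dvd one_pos h5
      omega)
  exact ⟨n, hn.1, hn.2, fun θ hθ => hfix ⟨θ, hθ⟩⟩

attribute [local instance] H687.autAct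

/-- **A cuspidal character of `PGL₂(F)`** of degree `q - 1`, fixed by the field automorphisms of `p`-power order and
nonzero somewhere outside `PSL₂(F)`. -/
theorem exists_cusp {p : ℕ} [Fact p.Prime] (hp : 3 < p) (F : Type v) [Field F] [Fintype F] [CharP F p] :
    ∃ π : PGL(2, F) → ℂ, IsIrrCharacter PGL(2, F) π ∧ (∃ d : ℕ, π 1 = d ∧ ¬ p ∣ d ∧ d ≠ 1) ∧
      ∑ c : F, π (ProjGenLinGroup.mk (upperRightHom c)) = 0 ∧
      (∀ θ : F ≃+* F, (∃ m : ℕ, θ ^ p ^ m = 1) → ∀ g : GL (Fin 2) F,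
        π (ProjGenLinGroup.mk (GeneralLinearGroup.map (θ : F →+* F) g)) = π (ProjGenLinGroup.mk g)) ∧
      ∃ g : GL (Fin 2) F, ¬ IsSquare g.det ∧ π (ProjGenLinGroup.mk g) ≠ 0 := by
  classical
  obtain ⟨n, hn1, hn2, hfix⟩ := exists_n hp F
  have : Finite (GL (Fin 2) F) := inferInstance
  have : Finite (PGL(2, F)) := Finite.of_surjective _ ProjGenLinGroup.mk_surjective
  have : Fintype (PGL(2, F)) := Fintype.ofFinite _
  have : Finite (IrrCharacter (PGL(2, F))) := finite_irr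
  have : Fintype (IrrCharacter (PGL(2, F))) := Fintype.ofFinite _
  have hq : p ∣ Fintype.card F := by
    obtain ⟨n, -, hn⟩ := FiniteField.card F p
    rw [hn]
    exact dvd_pow_self p n.pos.ne'
  have hq5 : p ≤ Fintype.card F := Nat.le_of_dvd Fintype.card_pos hq
  have hsum := sum_cusp (data F) hasAnti a_surj (card_invariant hn1) (y := pr (y0 n hn2)) (notMem hn2)
  rw [card_centralizer] at hsum
  obtain ⟨Φ, hΦ⟩ : ∃ Φ : IrrCharacter (PGL(2, F)) → ℂ, ∀ χ, Φ χ = if (data F).n χ 0 = 0 then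
    (χ : PGL(2, F) → ℂ) (pr (y0 n hn2)) * conj ((χ : PGL(2, F) → ℂ) (pr (y0 n hn2))) else 0 := ⟨_, fun _ => rfl⟩
  have hsum' : ∑ χ, Φ χ = (Fintype.card F : ℂ) - 3 := by
    rw [Finset.sum_congr rfl fun χ _ => hΦ χ]
    push_cast at hsum
    linear_combination hsum
  -- the action
  let _ : MulAction (pAut p F) (IrrCharacter (PGL(2, F))) :=
    MulAction.compHom _ ((mapH F).comp (pAut p F).subtype)
  have hact : ∀ (θ : pAut p F) (χ : IrrCharacter (PGL(2, F))) (g : PGL(2, F)),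
      ((θ • χ : IrrCharacter (PGL(2, F))) : PGL(2, F) → ℂ) g = (χ : PGL(2, F) → ℂ) (mapH F ((θ : F ≃+* F)⁻¹) g) := by
    intro θ χ g
    have h1 := H687.autAct_apply (mapH F (θ : F ≃+* F)) χ g
    rw [← map_inv] at h1
    exact h1
  have hx : ∀ (θ : F ≃+* F) (s : F), mapH F θ ((data F).X s) = (data F).X (θ s) := by
    intro θ s
    rw [data_X, data_X, pr_eq, mapH_apply, pr_eq]
    congr 1
    apply Units.ext
    ext i j
    fin_cases i <;> fin_cases j
    · exact map_one θ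
    · rfl
    · exact map_zero θ
    · exact map_one θ
  have hy : ∀ θ ∈ pAut p F, mapH F θ (pr (y0 n hn2)) = pr (y0 n hn2) := by
    intro θ hθ
    rw [pr_eq, mapH_apply]
    congr 1
    apply Units.ext
    ext i j
    fin_cases i <;> fin_cases j
    · exact map_zero θ
    · show θ (-(n * 1)) = -(n * 1)
      rw [map_neg, map_mul, map_one, hfix θ hθ]
    · exact map_one θ
    · show θ (0 + 1) = 0 + 1
      rw [map_add, map_zero, map_one]
  have hcusp : ∀ (θ : pAut p F) (χ : IrrCharacter (PGL(2, F))), (data F).n (θ • χ) 0 = 0 ↔ (data F).n χ 0 = 0 := by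
    intro θ χ
    rw [n_zero_iff, n_zero_iff]
    have h1 : ∑ s : F, ((θ • χ : IrrCharacter (PGL(2, F))) : PGL(2, F) → ℂ) ((data F).X s) =
        ∑ s : F, (χ : PGL(2, F) → ℂ) ((data F).X s) := by
      simp only [hact, hx]
      exact Fintype.sum_equiv ((θ : F ≃+* F)⁻¹ : F ≃+* F).toEquiv _ _ fun s => rfl
    rw [h1]
  have hinv : ∀ (θ : pAut p F) (χ : IrrCharacter (PGL(2, F))), Φ (θ • χ) = Φ χ := by
    intro θ χ
    rw [hΦ, hΦ]
    simp only [hcusp, hact, hy _ (inv_mem θ.2)]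
  have hint : ∀ χ, IsIntegral ℤ (Φ χ) := by
    intro χ
    rw [hΦ]
    split_ifs
    · refine (Blocks.Central.isIntegral_irr χ.2 _).mul ?_
      rw [← isCharacter_apply_inv (isIrr_isCharacter χ.2) (pr (y0 n hn2))]
      exact Blocks.Central.isIntegral_irr χ.2 _
    · exact isIntegral_zero
  obtain ⟨z, hz, hz2⟩ := H687.sum_fixed (p := p) isPGroup_pAut Φ hinv hint
  rw [hsum'] at hz2
  obtain ⟨χ, hχf, hχ⟩ : ∃ χ : IrrCharacter (PGL(2, F)), χ ∈ MulAction.fixedPoints (pAut p F) (IrrCharacter (PGL(2, F))) ∧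
      Φ χ ≠ 0 := by
    by_contra hcon
    push Not at hcon
    have h1 : ∑ χ, (if χ ∈ MulAction.fixedPoints (pAut p F) (IrrCharacter (PGL(2, F))) then Φ χ else 0) = 0 := by
      refine Finset.sum_eq_zero fun χ _ => ?_
      split_ifs with h
      · exact hcon χ h
      · rfl
    rw [h1, zero_add] at hz2
    -- `p ∣ q - 3`
    obtain ⟨m, hm⟩ := hq
    have hp0 : (p : ℂ) ≠ 0 := Nat.cast_ne_zero.2 (by omega)
    have h2 : (3 : ℂ) = p * ((m : ℂ) - z) := by
      rw [mul_sub, ← hz2, hm]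
      push_cast
      ring
    have h3 : IsIntegral ℤ ((m : ℂ) - z) := (isIntegral_algebraMap (R := ℤ) (A := ℂ) (x := (m : ℤ))).sub hz |> fun h => by simpa using h
    have h4 : (m : ℂ) - z = (((3 : ℚ) / p : ℚ) : ℂ) := by
      push_cast
      field_simp
      rw [mul_comm]
      exact h2.symm
    rw [h4] at h3
    have h5 : IsIntegral ℤ ((3 : ℚ) / p) := by
      rw [← eq_ratCast (algebraMap ℚ ℂ)] at h3
      exact (isIntegral_algebraMap_iff (algebraMap ℚ ℂ).injective).1 h3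
    obtain ⟨k, hk⟩ := IsIntegrallyClosed.isIntegral_iff.1 h5
    have h6 : (k : ℚ) = (3 : ℚ) / p := by simpa using hk
    have hpq : (p : ℚ) ≠ 0 := Nat.cast_ne_zero.2 (by omega)
    have h7 : (k : ℚ) * p = 3 := by
      rw [h6]
      field_simp
    have h8 : k * (p : ℤ) = 3 := by exact_mod_cast h7
    have h9 : (p : ℤ) ∣ 3 := ⟨k, by linarith⟩
    have h10 := Int.le_of_dvd (by norm_num) h9
    omega
  rw [hΦ] at hχ
  have h0 : (data F).n χ 0 = 0 := by
    by_contra h
    rw [if_neg h] at hχ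
    exact hχ rfl
  rw [if_pos h0] at hχ
  refine ⟨(χ : PGL(2, F) → ℂ), χ.2, ⟨Fintype.card F - 1, cusp_one (data F) hasAnti a_surj χ h0, ?_, by omega⟩, ?_, ?_,
    y0 n hn2, fun h => hn1 (isSquare_det hn2 h), left_ne_zero_of_mul hχ⟩
  · intro hd
    have h1 : p ∣ 1 := (Nat.dvd_sub hq hd) |> fun h => by
      have h2 : Fintype.card F - (Fintype.card F - 1) = 1 := by omega
      rwa [h2] at h
    have := Nat.le_of_dvd one_pos h1
    omega
  · have h1 := (n_zero_iff (data F) χ).1 h0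
    rw [← h1]
    exact Finset.sum_congr rfl fun c _ => by rw [data_X, pr_eq, x_eq]
  · intro θ hθ g
    have h1 := hχf (⟨θ, mem_pAut.2 hθ⟩⁻¹ : pAut p F)
    have h2 := congrArg (fun ψ : IrrCharacter (PGL(2, F)) => (ψ : PGL(2, F) → ℂ) (ProjGenLinGroup.mk g)) h1
    simp only [hact] at h2
    rw [Subgroup.coe_inv, inv_inv, mapH_apply] at h2
    exact h2

end Cfsg.Agent.H650.CuspPGL
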