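import Cfsg.Agent.H670.GL2Data
import Cfsg.Agent.H670.SL2Odd
import Mathlib.LinearAlgebra.Matrix.GeneralLinearGroup.Projective

/-!
# `PGL₂(F)` as a rank one group (helper650)
-/

set_option autoImplicit false
set_option linter.unusedSimpArgs false

open Cfsg
open scoped ComplexConjugate

namespace Cfsg.Agent.H650.PGLData

open Matrix MatrixGroups Cfsg.Agent.Characters.Core Cfsg.Agent.H670.RankOne
open Cfsg.Agent.H670.GL2 (e00 e01 e10 e11 ext4 mul00 mul01 mul10 mul11 x x00 x01 x10 x11 tor tor00 tor01 tor10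
  tor11 wel wel00 wel01 wel10 wel11 tor_mul_x wel_mul_tor anti mk00 mk01 mk10 mk11)

universe v

variable {F : Type v} [Field F]

theorem sc00 (u : Fˣ) : e00 (GeneralLinearGroup.scalar (Fin 2) u) = (u : F) := by
  simp [e00, GeneralLinearGroup.coe_scalar]
theorem sc01 (u : Fˣ) : e01 (GeneralLinearGroup.scalar (Fin 2) u) = (0 : F) := by
  simp [e01, GeneralLinearGroup.coe_scalar]
theorem sc10 (u : Fˣ) : e10 (GeneralLinearGroup.scalar (Fin 2) u) = (0 : F) := by
  simp [e10, GeneralLinearGroup.coe_scalar]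
theorem sc11 (u : Fˣ) : e11 (GeneralLinearGroup.scalar (Fin 2) u) = (u : F) := by
  simp [e11, GeneralLinearGroup.coe_scalar]

/-- The projection. -/
def pr (g : GL (Fin 2) F) : PGL(2, F) := ProjGenLinGroup.mk g

theorem pr_eq (g : GL (Fin 2) F) : pr g = ProjGenLinGroup.mk g := rfl

theorem pr_mul (g h : GL (Fin 2) F) : pr (g * h) = pr g * pr h := map_mul _ _ _

theorem pr_one : pr (1 : GL (Fin 2) F) = 1 := map_one _

theorem pr_inv (g : GL (Fin 2) F) : pr g⁻¹ = (pr g)⁻¹ := map_inv _ _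

theorem pr_surj (g : PGL(2, F)) : ∃ h : GL (Fin 2) F, pr h = g := ProjGenLinGroup.mk_surjective g

theorem pr_eq_iff {g h : GL (Fin 2) F} : pr g = pr h ↔ ∃ u : Fˣ,
    e00 h = u * e00 g ∧ e01 h = u * e01 g ∧ e10 h = u * e10 g ∧ e11 h = u * e11 g := by
  rw [pr_eq, pr_eq, ProjGenLinGroup.mk_eq_mk_iff]
  refine exists_congr fun u => ?_
  constructor
  · rintro rfl
    simp only [mul00, mul01, mul10, mul11, sc00, sc01, sc10, sc11]
    refine ⟨?_, ?_, ?_, ?_⟩ <;> ring
  · rintro ⟨h0, h1, h2, h3⟩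
    apply ext4 <;> simp only [mul00, mul01, mul10, mul11, sc00, sc01, sc10, sc11, h0, h1, h2, h3] <;> ring

/-- The torus. -/
noncomputable def tp : Fˣ →* PGL(2, F) where
  toFun u := pr (tor (u, 1))
  map_one' := by rw [← pr_one]; congr 1; rw [← Prod.one_eq_mk, map_one]
  map_mul' u v := by rw [← pr_mul, ← map_mul, Prod.mk_mul_mk, one_mul]

theorem tp_apply (u : Fˣ) : tp u = pr (tor (u, 1)) := rfl

theorem pr_tor (u : Fˣ × Fˣ) : pr (tor u) = tp (u.1 * u.2⁻¹) := by
  rw [tp_apply, pr_eq_iff]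
  refine ⟨u.2⁻¹, ?_, ?_, ?_, ?_⟩
  · rw [tor00, tor00]; push_cast; ring
  · rw [tor01, tor01, mul_zero]
  · rw [tor10, tor10, mul_zero]
  · rw [tor11, tor11, Units.val_one, ← Units.val_mul, inv_mul_cancel, Units.val_one]

theorem tp_inj : Function.Injective (tp : Fˣ →* PGL(2, F)) := by
  intro u v h
  rw [tp_apply, tp_apply, pr_eq_iff] at h
  obtain ⟨k, h0, -, -, h3⟩ := h
  rw [tor00, tor00] at h0
  rw [tor11, tor11, Units.val_one, mul_one] at h3
  rw [← h3, one_mul] at h0
  exact Units.ext h0.symm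

/-- The torus as a subgroup. -/
noncomputable def tpE : Fˣ ≃* (tp : Fˣ →* PGL(2, F)).range := MonoidHom.ofInjective tp_inj

theorem tpE_coe (u : Fˣ) : ((tpE u : (tp : Fˣ →* PGL(2, F)).range) : PGL(2, F)) = tp u := rfl

theorem tp_mul_X (u : Fˣ) (s : F) : tp u * pr (x s) = pr (x ((u : F) * s)) * tp u := by
  rw [tp_apply, ← pr_mul, ← pr_mul, tor_mul_x]
  congr 4
  rw [H670.GL2.root_apply, inv_one, mul_one]

theorem wel_mul_tp (u : Fˣ) : pr wel * tp u = tp u⁻¹ * pr wel := by
  rw [tp_apply, ← pr_mul, wel_mul_tor, pr_mul, pr_tor]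
  simp

/-- The rank one datum of `PGL₂(F)`. -/
noncomputable def data (F : Type v) [Field F] : Data (PGL(2, F)) F where
  X s := pr (x s)
  T := (tp : Fˣ →* PGL(2, F)).range
  w := pr wel
  a := tpE.symm.toMonoidHom
  X_add r s := by
    rw [← pr_mul]
    exact congrArg pr ((H670.GL2.data F).X_add r s)
  X_inj r s h := by
    rw [pr_eq_iff] at h
    obtain ⟨u, h0, h1, -, -⟩ := h
    rw [x00, x00, mul_one] at h0
    rw [x01, x01, ← h0, one_mul] at h1
    exact h1.symm
  conj_X t s := by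
    obtain ⟨u, rfl⟩ := tpE.surjective t
    rw [mul_inv_eq_iff_eq_mul]
    show tp u * pr (x s) = pr (x (((tpE.symm (tpE u) : Fˣ) : F) * s)) * tp u
    rw [MulEquiv.symm_apply_apply, tp_mul_X]
  comm_T s t := by
    obtain ⟨u, rfl⟩ := tpE.surjective s
    obtain ⟨v, rfl⟩ := tpE.surjective t
    rw [← map_mul, ← map_mul, mul_comm]
  w_mem := by
    rintro _ ⟨u, rfl⟩
    refine ⟨u⁻¹, ?_⟩
    rw [wel_mul_tp, mul_inv_cancel_right]
  w_sq := by
    obtain ⟨u, hu⟩ := (H670.GL2.data F).w_sq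
    refine ⟨u.1 * u.2⁻¹, ?_⟩
    rw [← pr_tor, ← pr_mul]
    exact congrArg pr hu
  bruhat g := by
    obtain ⟨g, rfl⟩ := pr_surj g
    rcases (H670.GL2.data F).bruhat g with ⟨s, _, ⟨u, rfl⟩, hg⟩ | ⟨s, r, _, ⟨u, rfl⟩, hg⟩
    · left
      refine ⟨s, pr (tor u), ⟨u.1 * u.2⁻¹, (pr_tor u).symm⟩, ?_⟩
      rw [← pr_mul]
      exact congrArg pr hg
    · right
      refine ⟨s, r, pr (tor u), ⟨u.1 * u.2⁻¹, (pr_tor u).symm⟩, ?_⟩
      rw [← pr_mul, ← pr_mul, ← pr_mul]
      exact congrArg pr hg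
  opp r s t ht h := by
    obtain ⟨u, rfl⟩ := ht
    have h1 : pr (wel * x r) = pr (x s * tor (u, 1) * wel) := by
      rw [pr_mul, pr_mul, pr_mul, ← tp_apply, ← h]; group
    rw [pr_eq_iff] at h1
    obtain ⟨k, -, -, -, h2⟩ := h1
    simp only [mul00, mul01, mul10, mul11, x00, x01, x10, x11, tor00, tor01, tor10,
        tor11, wel00, wel01, wel10, wel11] at h2
    have h3 : (k : F) * r = 0 := by linear_combination -h2
    exact (mul_eq_zero.1 h3).resolve_left k.ne_zero

theorem data_X (s : F) : (data F).X s = pr (x s) := rfl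
theorem data_w : (data F).w = pr wel := rfl
theorem data_T : (data F).T = (tp : Fˣ →* PGL(2, F)).range := rfl

/-- The elements of the torus. -/
noncomputable def tt (u : Fˣ) : (data F).T := tpE u

theorem tt_coe (u : Fˣ) : ((tt u : (data F).T) : PGL(2, F)) = tp u := rfl

/-- The torus is isomorphic to the multiplicative group. -/
noncomputable def ttE (F : Type v) [Field F] : Fˣ ≃* (data F).T := tpE

theorem ttE_apply (u : Fˣ) : ttE F u = tt u := rfl

theorem exists_tt (t : (data F).T) : ∃ u : Fˣ, t = tt u := by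
  obtain ⟨u, rfl⟩ := (ttE F).surjective t
  exact ⟨u, rfl⟩

theorem data_a (u : Fˣ) : (data F).a (tt u) = u := by
  show tpE.symm (tpE u) = u
  rw [MulEquiv.symm_apply_apply]

theorem a_surj : Function.Surjective (data F).a := fun u => ⟨tt u, data_a u⟩

theorem data_wT (u : Fˣ) : (data F).wT (tt u) = tt u⁻¹ := by
  apply Subtype.ext
  rw [Data.wT_coe, tt_coe, tt_coe, data_w, wel_mul_tp, mul_inv_cancel_right]

theorem anti_mul (g h : GL (Fin 2) F) : anti (g * h) = anti h * anti g := by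
  apply ext4 <;> simp only [anti, mul00, mul01, mul10, mul11, mk00, mk01, mk10, mk11] <;> ring

/-- The anti-automorphism. -/
noncomputable def antiP (g : PGL(2, F)) : PGL(2, F) := pr (anti (pr_surj g).choose)

theorem antiP_pr (g : GL (Fin 2) F) : antiP (pr g) = pr (anti g) := by
  have h := (pr_surj (pr g)).choose_spec
  show pr (anti (pr_surj (pr g)).choose) = pr (anti g)
  rw [pr_eq_iff] at h ⊢
  obtain ⟨u, h0, h1, h2, h3⟩ := h
  refine ⟨u, ?_, ?_, ?_, ?_⟩
  · simp only [anti, mk00]; exact h3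
  · simp only [anti, mk01]; exact h1
  · simp only [anti, mk10]; exact h2
  · simp only [anti, mk11]; exact h0

theorem hasAnti : HasAnti (data F) := by
  refine ⟨antiP, ?_, ?_, ?_, ?_⟩
  · intro g h
    obtain ⟨g, rfl⟩ := pr_surj g
    obtain ⟨h, rfl⟩ := pr_surj h
    rw [← pr_mul, antiP_pr, antiP_pr, antiP_pr, ← pr_mul, anti_mul]
  · intro s
    rw [data_X, antiP_pr]
    exact congrArg pr (ext4 rfl rfl rfl rfl)
  · rintro _ ⟨u, rfl⟩
    rw [data_w, tp_apply, ← pr_mul, antiP_pr]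
    congr 1
    apply ext4 <;> simp only [anti, mk00, mk01, mk10, mk11, mul00, mul01, mul10, mul11, tor00,
      tor01, tor10, tor11, wel00, wel01, wel10, wel11] <;> ring
  · intro t ht
    obtain ⟨u, rfl⟩ := exists_tt t
    rw [data_a] at ht
    rw [ht, tt_coe, map_one, ← pr_one, antiP_pr]
    congr 1
    have h00 : e00 (1 : GL (Fin 2) F) = 1 := by simp [e00]
    have h01 : e01 (1 : GL (Fin 2) F) = 0 := by simp [e01]
    have h10 : e10 (1 : GL (Fin 2) F) = 0 := by simp [e10]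
    have h11 : e11 (1 : GL (Fin 2) F) = 1 := by simp [e11]
    apply ext4 <;> simp only [anti, mk00, mk01, mk10, mk11, h00, h01, h10, h11]

theorem card_T [Fintype F] : Nat.card (data F).T = Fintype.card F - 1 := by
  classical
  rw [← Nat.card_congr (ttE F).toEquiv, Nat.card_eq_fintype_card, Fintype.card_units]

/-- The characters of the torus. -/
noncomputable def lamE (F : Type v) [Field F] : (Fˣ →* ℂˣ) ≃ ((data F).T →* ℂˣ) where
  toFun f := f.comp (ttE F).symm.toMonoidHom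
  invFun g := g.comp (ttE F).toMonoidHom
  left_inv f := by
    ext u
    simp
  right_inv g := by
    ext t
    simp

theorem lamE_tt (f : Fˣ →* ℂˣ) (u : Fˣ) : lamE F f (tt u) = f u := by
  show f ((ttE F).symm (ttE F u)) = f u
  rw [MulEquiv.symm_apply_apply]

theorem lamE_comp_wT (f : Fˣ →* ℂˣ) : (lamE F f).comp (data F).wT = lamE F f⁻¹ := by
  ext t
  obtain ⟨u, rfl⟩ := exists_tt t
  rw [MonoidHom.comp_apply, data_wT, lamE_tt, lamE_tt, map_inv, MonoidHom.inv_apply]

theorem lamE_invariant_iff (f : Fˣ →* ℂˣ) :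
    lamE F f = (lamE F f).comp (data F).wT ↔ f ^ 2 = 1 := by
  rw [lamE_comp_wT, (lamE F).injective.eq_iff, MonoidHom.ext_iff, MonoidHom.ext_iff]
  refine forall_congr' fun u => ?_
  rw [MonoidHom.inv_apply, MonoidHom.pow_apply, MonoidHom.one_apply, eq_inv_iff_mul_eq_one, pow_two]

theorem card_invariant [Fintype F] {nu : F} (hnu : ¬ IsSquare nu) :
    Nat.card {lam : (data F).T →* ℂˣ // lam = lam.comp (data F).wT} = 2 := by
  have h1 : Nat.card {lam : (data F).T →* ℂˣ // lam = lam.comp (data F).wT} =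
      Nat.card {f : Fˣ →* ℂˣ // f ^ 2 = 1} := by
    refine Nat.card_congr (Equiv.subtypeEquiv (lamE F).symm fun lam => ?_)
    rw [← lamE_invariant_iff, Equiv.apply_symm_apply]
  rw [h1, H670.SL2.card_hom_sq_one, H670.SL2.card_sq_one hnu]

end Cfsg.Agent.H650.PGLData
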